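import Mathlib

/-!
Counting weighted tuples of monic polynomials with non-zero constant term.
-/

set_option autoImplicit false

namespace CfsgLib.SpecGL

open Polynomial Finset

/-- number of monic polynomials of degree `d` with non-zero constant term -/
def polyCount (q : ℕ) : ℕ → ℕ
  | 0 => 1
  | d + 1 => (q - 1) * q ^ d

/-- number of tuples `(g₁, …, g_m)` with `∑ i · deg g_i = N` -/
def tupleCount (q : ℕ) : ℕ → ℕ → ℕ
  | 0, N => if N = 0 then 1 else 0
  | m + 1, N => ∑ d ∈ range (N / (m + 1) + 1), polyCount q d * tupleCount q m (N - (m + 1) * d)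

theorem tupleCount_zero_right (q m : ℕ) : tupleCount q m 0 = 1 := by
  induction m with
  | zero => simp [tupleCount]
  | succ m ih => simp [tupleCount, polyCount, ih]

theorem tupleCount_bound {q : ℕ} (hq : 1 ≤ q) : ∀ m N : ℕ, 1 ≤ N →
    q ^ m * tupleCount q m N ≤ (q ^ m - 1) * q ^ N := by
  intro m
  induction m with
  | zero => intro N hN; simp [tupleCount, show N ≠ 0 by omega]
  | succ m ih =>
    intro N hN
    set T : ℕ → ℕ := fun N => ∑ e ∈ range (N / (m + 1)),
      polyCount q (e + 1) * tupleCount q m (N - (m + 1) * (e + 1)) with hT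
    have hrec : ∀ N, m + 1 ≤ N → T N = (q - 1) * tupleCount q m (N - (m + 1)) + q * T (N - (m + 1)) := by
      intro N hle
      have hdiv : N / (m + 1) = (N - (m + 1)) / (m + 1) + 1 := Nat.div_eq_sub_div (by omega) hle
      simp only [hT]
      rw [hdiv, Finset.sum_range_succ', Finset.mul_sum, add_comm]
      congr 1
      · simp [polyCount]
      · refine Finset.sum_congr rfl fun e _ => ?_
        rw [show N - (m + 1) * (e + 1 + 1) = N - (m + 1) - (m + 1) * (e + 1) by
          rw [mul_add, mul_one, Nat.sub_sub]; ring_nf]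
        simp only [polyCount, pow_succ]
        ring
    have hTb : ∀ N, 1 ≤ N → q ^ (m + 1) * T N ≤ (q - 1) * q ^ N := by
      intro N
      induction N using Nat.strong_induction_on with
      | _ N ihN =>
        intro hN
        rcases Nat.lt_or_ge N (m + 1) with hlt | hge
        · simp [hT, Nat.div_eq_of_lt hlt]
        rcases Nat.eq_zero_or_pos (N - (m + 1)) with h0 | h0
        · have hNe : N = m + 1 := by omega
          rw [hrec N hge, h0, tupleCount_zero_right, hNe]
          simp [hT, mul_comm]
        · have h1 := ihN (N - (m + 1)) (by omega) h0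
          have h2 := ih (N - (m + 1)) h0
          have hpm : 1 ≤ q ^ m := Nat.one_le_pow _ _ hq
          calc q ^ (m + 1) * T N
              = (q - 1) * q * (q ^ m * tupleCount q m (N - (m + 1))) +
                q * (q ^ (m + 1) * T (N - (m + 1))) := by rw [hrec N hge]; ring
            _ ≤ (q - 1) * q * ((q ^ m - 1) * q ^ (N - (m + 1))) +
                q * ((q - 1) * q ^ (N - (m + 1))) := by gcongr
            _ = (q - 1) * q * (q ^ m - 1 + 1) * q ^ (N - (m + 1)) := by ring
            _ = (q - 1) * q ^ N := by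
                rw [Nat.sub_add_cancel hpm, mul_assoc (q - 1), ← pow_succ', mul_assoc, ← pow_add,
                  Nat.add_sub_cancel' hge]
    have hsplit : tupleCount q (m + 1) N = tupleCount q m N + T N := by
      rw [tupleCount, Finset.sum_range_succ', add_comm]
      simp [hT, polyCount]
    have h1 := ih N hN
    have h2 := hTb N hN
    have hpm : 1 ≤ q ^ m := Nat.one_le_pow _ _ hq
    calc q ^ (m + 1) * tupleCount q (m + 1) N
        = q * (q ^ m * tupleCount q m N) + q ^ (m + 1) * T N := by rw [hsplit]; ring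
      _ ≤ q * ((q ^ m - 1) * q ^ N) + (q - 1) * q ^ N := by gcongr
      _ = (q * (q ^ m - 1) + (q - 1)) * q ^ N := by ring
      _ = (q ^ (m + 1) - 1) * q ^ N := by
          congr 1
          have h3 : q ≤ q * q ^ m := Nat.le_mul_of_pos_right q (by omega)
          rw [Nat.mul_sub, mul_one, pow_succ']
          omega

theorem tupleCount_le {q n : ℕ} (hq : 1 ≤ q) (hn : 1 ≤ n) : tupleCount q n n ≤ q ^ n := by
  have h := tupleCount_bound hq n n hn
  have h' : q ^ n * tupleCount q n n ≤ q ^ n * q ^ n := h.trans (Nat.mul_le_mul_right _ (Nat.sub_le _ _))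
  exact Nat.le_of_mul_le_mul_left h' (Nat.one_le_pow _ _ hq)

variable (F : Type*) [Field F] [Fintype F]

/-- the monic polynomials of degree `d` with non-zero constant term -/
noncomputable def polys : ℕ → Finset F[X]
  | 0 => {1}
  | e + 1 =>
    haveI := Classical.decEq F
    (Finset.univ : Finset ({a : F // a ≠ 0} × (Fin e → F))).image
      fun x => X ^ (e + 1) + C (x.1 : F) + X * ∑ j : Fin e, C (x.2 j) * X ^ (j : ℕ)

theorem coeff_shape (e : ℕ) (a : F) (c : Fin e → F) (i : ℕ) :
    (X ^ (e + 1) + C a + X * ∑ j : Fin e, C (c j) * X ^ (j : ℕ) : F[X]).coeff i =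
      if i = 0 then a else if i = e + 1 then 1 else if h : i - 1 < e then c ⟨i - 1, h⟩ else 0 := by
  classical
  rcases i with _ | i
  · simp [coeff_X_pow]
  · rw [coeff_add, coeff_add, coeff_X_pow, coeff_C, coeff_X_mul, finsetSum_coeff]
    simp only [coeff_C_mul_X_pow, Nat.add_one_sub_one, Nat.succ_ne_zero, if_false, add_zero,
      Nat.add_right_cancel_iff]
    by_cases hi : i = e
    · subst hi
      have : (∑ x : Fin i, if i = (x : ℕ) then c x else 0) = 0 :=
        Finset.sum_eq_zero fun x _ => if_neg (by omega)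
      simp [this]
    · rw [if_neg hi, zero_add]
      by_cases hlt : i < e
      · rw [dif_pos hlt, Finset.sum_eq_single (⟨i, hlt⟩ : Fin e)]
        · simp [hi]
        · intro x _ hx
          exact if_neg fun h => hx (Fin.ext h.symm)
        · simp
      · rw [dif_neg hlt]
        rw [if_neg hi]
        exact Finset.sum_eq_zero fun x _ => if_neg (by omega)

variable {F}

theorem mem_polys {d : ℕ} {g : F[X]} (hm : g.Monic) (hd : g.natDegree = d) (h0 : g.coeff 0 ≠ 0) :
    g ∈ polys F d := by
  classical
  rcases d with _ | e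
  · rw [polys, Finset.mem_singleton]
    exact hm.natDegree_eq_zero.1 hd
  · rw [polys, Finset.mem_image]
    refine ⟨(⟨g.coeff 0, h0⟩, fun j => g.coeff ((j : ℕ) + 1)), Finset.mem_univ _, ?_⟩
    ext i
    rw [coeff_shape]
    by_cases hi0 : i = 0
    · simp [hi0]
    rw [if_neg hi0]
    by_cases hie : i = e + 1
    · rw [if_pos hie, hie, ← hd]
      exact hm.symm
    rw [if_neg hie]
    by_cases hlt : i - 1 < e
    · rw [dif_pos hlt]
      simp [show i - 1 + 1 = i by omega]
    · rw [dif_neg hlt, coeff_eq_zero_of_natDegree_lt (by omega)]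

theorem spec_polys {d : ℕ} {g : F[X]} (hg : g ∈ polys F d) :
    g.Monic ∧ g.natDegree = d ∧ g.coeff 0 ≠ 0 := by
  classical
  rcases d with _ | e
  · rw [polys, Finset.mem_singleton] at hg
    subst hg
    simp
  · rw [polys, Finset.mem_image] at hg
    obtain ⟨⟨a, c⟩, -, rfl⟩ := hg
    have htop : (X ^ (e + 1) + C (a : F) + X * ∑ j : Fin e, C (c j) * X ^ (j : ℕ) : F[X]).coeff (e + 1)
        = 1 := by
      rw [coeff_shape]; simp
    have hdeg : (X ^ (e + 1) + C (a : F) + X * ∑ j : Fin e, C (c j) * X ^ (j : ℕ) : F[X]).natDegree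
        = e + 1 := by
      refine le_antisymm (natDegree_le_iff_coeff_eq_zero.2 fun i hi => ?_)
        (le_natDegree_of_ne_zero (by rw [htop]; exact one_ne_zero))
      rw [coeff_shape, if_neg (by omega), if_neg (by omega), dif_neg (by omega)]
    refine ⟨?_, hdeg, ?_⟩
    · rw [Monic, leadingCoeff, hdeg, htop]
    · rw [coeff_shape, if_pos rfl]; exact a.2

variable (F)

theorem card_polys (d : ℕ) : (polys F d).card = polyCount (Fintype.card F) d := by
  classical
  rcases d with _ | e
  · simp [polys, polyCount]
  · rw [polys, Finset.card_image_of_injective _ ?_, Finset.card_univ, Fintype.card_prod,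
      Fintype.card_fun, Fintype.card_fin, Fintype.card_subtype_compl, Fintype.card_subtype_eq,
      polyCount]
    rintro ⟨a, c⟩ ⟨a', c'⟩ h
    refine Prod.ext (Subtype.ext ?_) (funext fun j => ?_)
    · have := congrArg (fun P : F[X] => P.coeff 0) h
      simpa [coeff_shape] using this
    · have := congrArg (fun P : F[X] => P.coeff ((j : ℕ) + 1)) h
      simp only [coeff_shape, Nat.succ_ne_zero, if_false, Nat.add_right_cancel_iff,
        Nat.add_one_sub_one, dif_pos j.2] at this
      rwa [if_neg (by omega), if_neg (by omega)] at this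

/-- the weighted tuples -/
noncomputable def tuples : (m : ℕ) → ℕ → Finset (Fin m → F[X])
  | 0, N => if N = 0 then {Fin.elim0} else ∅
  | m + 1, N =>
    haveI := Classical.decEq (Fin (m + 1) → F[X])
    (range (N / (m + 1) + 1)).biUnion fun d =>
      (polys F d ×ˢ tuples m (N - (m + 1) * d)).image fun x => Fin.snoc x.2 x.1

theorem card_tuples_le : ∀ m N : ℕ, (tuples F m N).card ≤ tupleCount (Fintype.card F) m N
  | 0, N => by
    rw [tuples, tupleCount]
    split_ifs <;> simp
  | m + 1, N => by
    letI := Classical.decEq (Fin (m + 1) → F[X])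
    rw [tuples, tupleCount]
    refine Finset.card_biUnion_le.trans (Finset.sum_le_sum fun d _ => ?_)
    refine Finset.card_image_le.trans ?_
    rw [Finset.card_product, card_polys]
    exact Nat.mul_le_mul_left _ (card_tuples_le m _)

variable {F}

theorem mem_tuples : ∀ {m N : ℕ} {g : Fin m → F[X]}, (∀ i, (g i).Monic ∧ (g i).coeff 0 ≠ 0) →
    (∑ i : Fin m, ((i : ℕ) + 1) * (g i).natDegree) = N → g ∈ tuples F m N
  | 0, N, g, _, hs => by
    simp only [Finset.univ_eq_empty, Finset.sum_empty] at hs
    rw [tuples, if_pos hs.symm, Finset.mem_singleton]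
    exact funext fun i => i.elim0
  | m + 1, N, g, hg, hs => by
    letI := Classical.decEq (Fin (m + 1) → F[X])
    rw [Fin.sum_univ_castSucc] at hs
    simp only [Fin.val_castSucc, Fin.val_last] at hs
    rw [tuples, Finset.mem_biUnion]
    refine ⟨(g (Fin.last m)).natDegree, ?_, Finset.mem_image.2
      ⟨(g (Fin.last m), Fin.init g), ?_, Fin.snoc_init_self g⟩⟩
    · rw [Finset.mem_range, Nat.lt_succ_iff, Nat.le_div_iff_mul_le (by omega)]
      rw [mul_comm]
      omega
    · rw [Finset.mem_product]
      refine ⟨mem_polys (hg _).1 rfl (hg _).2, mem_tuples (fun i => hg _) ?_⟩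
      simp only [Fin.init_def]
      omega

end CfsgLib.SpecGL
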