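import Mathlib
import Cfsg.Agent.Lib.SpecGL.TupleCount

/-!
Conjugacy classes of `GL_n(q)`: elementary divisors give at most `q^n` classes, characteristic polynomials at
least `q^n - q^(n-1)`.
-/

set_option autoImplicit false

namespace CfsgLib.SpecGL

open Polynomial Matrix

universe u

variable {F : Type u} [Field F] {n : ℕ}

/-- `s` is a multiset of elementary divisors of `A` -/
def HasDivisors (A : Matrix (Fin n) (Fin n) F) (s : Multiset (F[X] × ℕ)) : Prop :=
  ∃ (ι : Type u) (_ : Fintype ι) (d : ι → F[X] × ℕ), Finset.univ.val.map d = s ∧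
    Nonempty (Module.AEval' (Matrix.toLin' A) ≃ₗ[F[X]]
      ((i : ι) → F[X] ⧸ Ideal.span {(d i).1 ^ (d i).2}))

theorem exists_divisors (A : Matrix (Fin n) (Fin n) F) (hA : IsUnit A) :
    ∃ s : Multiset (F[X] × ℕ), HasDivisors A s ∧
      (∀ x ∈ s, x.1.Monic ∧ Irreducible x.1 ∧ x.1.coeff 0 ≠ 0 ∧ 1 ≤ x.2) ∧
      (s.map fun x => x.2 * x.1.natDegree).sum = n := by
  classical
  obtain ⟨ι, _, p, hp, e, ⟨ψ⟩⟩ := Module.equiv_directSum_of_isTorsion
    (Module.AEval.isTorsion_of_finiteDimensional (K := F) (M := Fin n → F) (Matrix.toLin' A))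
  let ψ' := ψ.trans (DirectSum.linearEquivFunOnFintype F[X] ι fun i => F[X] ⧸ Ideal.span {p i ^ e i})
  -- drop trivial summands
  let ι' := {i : ι // 1 ≤ e i}
  let d : ι' → F[X] × ℕ := fun i => (normalize (p i.1), e i.1)
  have htriv : ∀ i, ¬ 1 ≤ e i → Subsingleton (F[X] ⧸ Ideal.span {p i ^ e i}) := fun i hi => by
    rw [show e i = 0 by omega, pow_zero, Ideal.span_singleton_one]
    infer_instance
  let r : ((i : ι) → F[X] ⧸ Ideal.span {p i ^ e i}) →ₗ[F[X]]
      ((i : ι') → F[X] ⧸ Ideal.span {p i.1 ^ e i.1}) := LinearMap.pi fun i => LinearMap.proj i.1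
  have hr : Function.Bijective r := by
    refine ⟨fun x y h => funext fun i => ?_, fun y => ⟨fun i => if h : 1 ≤ e i then y ⟨i, h⟩ else 0, ?_⟩⟩
    · by_cases hi : 1 ≤ e i
      · exact congrFun h ⟨i, hi⟩
      · haveI := htriv i hi
        exact Subsingleton.elim _ _
    · funext i
      simp only [r, LinearMap.pi_apply, LinearMap.proj_apply]
      exact dif_pos i.2
  have hspan : ∀ i : ι', Ideal.span {p i.1 ^ e i.1} = Ideal.span {(d i).1 ^ (d i).2} := fun i =>
    Ideal.span_singleton_eq_span_singleton.2 ((normalize_associated (p i.1)).symm.pow_pow)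
  let Φ := (ψ'.trans (LinearEquiv.ofBijective r hr)).trans
    (LinearEquiv.piCongrRight fun i => Submodule.quotEquivOfEq _ _ (hspan i))
  refine ⟨Finset.univ.val.map d, ⟨ι', inferInstance, d, rfl, ⟨Φ⟩⟩, ?_, ?_⟩
  · intro x hx
    rw [Multiset.mem_map] at hx
    obtain ⟨i, -, rfl⟩ := hx
    have hirr : Irreducible (d i).1 := (normalize_associated (p i.1)).symm.irreducible (hp i.1)
    have hmon : (d i).1.Monic := Polynomial.monic_normalize (hp i.1).ne_zero
    refine ⟨hmon, hirr, fun h0 => ?_, i.2⟩
    have hX : X ∣ (d i).1 := X_dvd_iff.2 h0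
    have hdX : (d i).1 = X :=
      (eq_of_monic_of_associated monic_X hmon (irreducible_X.associated_of_dvd hirr hX)).symm
    let y := Φ.symm (Pi.single i (Ideal.Quotient.mk _ (X ^ (e i.1 - 1))))
    have hy0 : y ≠ 0 := by
      intro hy
      rw [LinearEquiv.map_eq_zero_iff, Pi.single_eq_zero_iff, Ideal.Quotient.eq_zero_iff_dvd] at hy
      simp only [hdX] at hy
      have := (pow_dvd_pow_iff (X_ne_zero (R := F)) not_isUnit_X).1 hy
      have := i.2
      simp only [d] at *
      omega
    have hXy : (X : F[X]) • y = 0 := by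
      rw [← map_smul, LinearEquiv.map_eq_zero_iff, ← Pi.single_smul, Pi.single_eq_zero_iff]
      change Ideal.Quotient.mk _ (X * X ^ (e i.1 - 1)) = 0
      rw [Ideal.Quotient.eq_zero_iff_dvd, ← pow_succ', hdX]
      exact pow_dvd_pow _ (by have := i.2; simp only [d]; omega)
    have h2 := congrArg (Module.AEval'.of (Matrix.toLin' A)).symm hXy
    rw [Module.AEval'.of_symm_X_smul, map_zero] at h2
    have hinj : Function.Injective (Matrix.toLin' A) := by
      intro v w hvw
      simp only [Matrix.toLin'_apply] at hvw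
      exact Matrix.mulVec_injective_iff_isUnit.2 hA hvw
    exact hy0 ((Module.AEval'.of (Matrix.toLin' A)).symm.injective
      ((hinj (h2.trans (map_zero _).symm)).trans (map_zero _).symm))
  · rw [Multiset.map_map]
    change ∑ i : ι', e i.1 * (normalize (p i.1)).natDegree = n
    have hfr : ∀ i : ι', Module.finrank F (F[X] ⧸ Ideal.span {(d i).1 ^ (d i).2}) =
        e i.1 * (normalize (p i.1)).natDegree := fun i => by
      rw [finrank_quotient_span_eq_natDegree, natDegree_pow]
    have : ∀ i : ι', Module.Finite F (F[X] ⧸ Ideal.span {(d i).1 ^ (d i).2}) := fun i =>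
      (AdjoinRoot.powerBasis (pow_ne_zero _ (by simpa [d] using (hp i.1).ne_zero))).finite
    have h1 := ((Module.AEval'.of (Matrix.toLin' A)).trans (Φ.restrictScalars F)).finrank_eq
    rw [Module.finrank_fin_fun, Module.finrank_pi_fintype, Finset.sum_congr rfl fun i _ => hfr i] at h1
    exact h1.symm

theorem isConj_of_divisors {A A' : Matrix (Fin n) (Fin n) F} {s : Multiset (F[X] × ℕ)}
    (h : HasDivisors A s) (h' : HasDivisors A' s) :
    ∃ P : GL (Fin n) F, (P : Matrix (Fin n) (Fin n) F) * A = A' * P := by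
  classical
  obtain ⟨ι, _, d, hd, ⟨Φ⟩⟩ := h
  obtain ⟨ι', _, d', hd', ⟨Φ'⟩⟩ := h'
  have hcnt : ∀ c, Fintype.card {i // d i = c} = Fintype.card {i // d' i = c} := fun c => by
    have := congrArg (Multiset.count c) (hd.trans hd'.symm)
    rw [Multiset.count_map, Multiset.count_map] at this
    simp only [Fintype.card_subtype, Finset.card_def, Finset.filter_val]
    simpa [eq_comm] using this
  let σ : ι ≃ ι' := Equiv.ofFiberEquiv fun c => Fintype.equivOfCardEq (hcnt c)
  have hσ : ∀ i, d' (σ i) = d i := fun i => Equiv.ofFiberEquiv_map _ i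
  let Ψ : ((i : ι) → F[X] ⧸ Ideal.span {(d i).1 ^ (d i).2}) ≃ₗ[F[X]]
      ((i : ι') → F[X] ⧸ Ideal.span {(d' i).1 ^ (d' i).2}) :=
    (LinearEquiv.piCongrRight fun i => Submodule.quotEquivOfEq _ _ (by rw [hσ i])).trans
      (LinearEquiv.piCongrLeft F[X] (fun i => F[X] ⧸ Ideal.span {(d' i).1 ^ (d' i).2}) σ)
  let Θ := (Φ.trans Ψ).trans Φ'.symm
  let T : (Fin n → F) ≃ₗ[F] (Fin n → F) :=
    (Module.AEval'.of (Matrix.toLin' A)).trans
      ((Θ.restrictScalars F).trans (Module.AEval'.of (Matrix.toLin' A')).symm)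
  have hT : ∀ v, T (Matrix.toLin' A v) = Matrix.toLin' A' (T v) := fun v => by
    simp only [T, LinearEquiv.trans_apply, LinearEquiv.restrictScalars_apply]
    rw [← Module.AEval'.X_smul_of, map_smul, Module.AEval'.of_symm_X_smul]
  refine ⟨⟨LinearMap.toMatrix' T.toLinearMap, LinearMap.toMatrix' T.symm.toLinearMap, ?_, ?_⟩, ?_⟩
  · rw [← LinearMap.toMatrix'_comp, T.comp_symm, LinearMap.toMatrix'_id]
  · rw [← LinearMap.toMatrix'_comp, T.symm_comp, LinearMap.toMatrix'_id]
  · apply Matrix.toLin'.injective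
    refine LinearMap.ext fun v => ?_
    simp only [Matrix.toLin'_mul, LinearMap.comp_apply, Matrix.toLin'_toMatrix']
    exact hT v

variable [Fintype F]

/-- At most `q^n` classes. -/
theorem card_classes_le (hn : 1 ≤ n) :
    Nat.card (ConjClasses (GL (Fin n) F)) ≤ Fintype.card F ^ n := by
  classical
  let s : ConjClasses (GL (Fin n) F) → Multiset (F[X] × ℕ) := fun c =>
    (exists_divisors (c.out : Matrix (Fin n) (Fin n) F) c.out.isUnit).choose
  have hs := fun c : ConjClasses (GL (Fin n) F) =>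
    (exists_divisors (c.out : Matrix (Fin n) (Fin n) F) c.out.isUnit).choose_spec
  let g : ConjClasses (GL (Fin n) F) → Fin n → F[X] := fun c i =>
    (((s c).filter fun x => x.2 = (i : ℕ) + 1).map Prod.fst).prod
  have hmem : ∀ c, ∀ x ∈ s c, x.1.Monic ∧ Irreducible x.1 ∧ x.1.coeff 0 ≠ 0 ∧ 1 ≤ x.2 := fun c =>
    (hs c).2.1
  have hle : ∀ c, ∀ x ∈ s c, x.2 ≤ n := fun c x hx => by
    have h1 : x.2 * x.1.natDegree ≤ n := (hs c).2.2.le.trans' (Multiset.single_le_sum (fun _ _ => Nat.zero_le _) _
      (Multiset.mem_map_of_mem (fun x : F[X] × ℕ => x.2 * x.1.natDegree) hx))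
    exact le_trans (Nat.le_mul_of_pos_right _ (hmem c x hx).2.1.natDegree_pos) h1
  have hgmem : ∀ c, g c ∈ tuples F n n := fun c => by
    refine mem_tuples (fun i => ⟨monic_multiset_prod_of_monic _ _ fun x hx => (hmem c x
      (Multiset.mem_of_mem_filter hx)).1, ?_⟩) ?_
    · change (((s c).filter fun x => x.2 = (i : ℕ) + 1).map Prod.fst).prod.coeff 0 ≠ 0
      rw [coeff_zero_multiset_prod, Multiset.map_map]
      refine Multiset.prod_ne_zero fun h => ?_
      obtain ⟨x, hx, hx0⟩ := Multiset.mem_map.1 h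
      exact (hmem c x (Multiset.mem_of_mem_filter hx)).2.2.1 hx0
    · have h1 : ∀ i : Fin n, ((i : ℕ) + 1) * (g c i).natDegree =
          (((s c).filter fun x => x.2 = (i : ℕ) + 1).map fun x => x.2 * x.1.natDegree).sum := fun i => by
        rw [natDegree_multiset_prod_of_monic _ (fun p hp => by
          obtain ⟨x, hx, rfl⟩ := Multiset.mem_map.1 hp
          exact (hmem c x (Multiset.mem_of_mem_filter hx)).1), Multiset.map_map,
          ← Multiset.sum_map_mul_left]
        refine congrArg Multiset.sum (Multiset.map_congr rfl fun x hx => ?_)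
        rw [Function.comp_apply, (Multiset.mem_filter.1 hx).2]
      rw [Finset.sum_congr rfl fun i _ => h1 i]
      conv_rhs => rw [← (hs c).2.2]
      clear h1
      have : ∀ t : Multiset (F[X] × ℕ), (∀ x ∈ t, 1 ≤ x.2 ∧ x.2 ≤ n) →
          ∑ i : Fin n, ((t.filter fun x => x.2 = (i : ℕ) + 1).map fun x => x.2 * x.1.natDegree).sum =
            (t.map fun x => x.2 * x.1.natDegree).sum := by
        intro t
        induction t using Multiset.induction with
        | empty => simp
        | cons x t ih =>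
          intro ht
          obtain ⟨hx1, hx2⟩ := ht x (Multiset.mem_cons_self x t)
          rw [Multiset.map_cons, Multiset.sum_cons, ← ih fun y hy => ht y (Multiset.mem_cons_of_mem hy)]
          rw [← Finset.sum_ite_eq' Finset.univ (⟨x.2 - 1, by omega⟩ : Fin n)
            (fun _ => x.2 * x.1.natDegree) |>.trans (if_pos (Finset.mem_univ _)), ← Finset.sum_add_distrib]
          refine Finset.sum_congr rfl fun i _ => ?_
          rw [Multiset.filter_cons]
          by_cases hi : x.2 = (i : ℕ) + 1
          · rw [if_pos hi, if_pos (Fin.ext (show (i : ℕ) = x.2 - 1 by omega))]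
            simp
          · rw [if_neg hi, if_neg fun h => hi (by rw [h]; change x.2 = x.2 - 1 + 1; omega)]
            simp
      exact this _ fun x hx => ⟨(hmem c x hx).2.2.2, hle c x hx⟩
  have hginj : Function.Injective g := by
    intro c c' h
    have hfac : ∀ c (i : Fin n), UniqueFactorizationMonoid.normalizedFactors (g c i) =
        ((s c).filter fun x => x.2 = (i : ℕ) + 1).map Prod.fst := fun c i => by
      rw [UniqueFactorizationMonoid.normalizedFactors_prod_eq]
      · refine Multiset.map_id' _ |> fun e => Eq.trans (Multiset.map_congr rfl fun p hp => ?_) e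
        obtain ⟨x, hx, rfl⟩ := Multiset.mem_map.1 hp
        exact (hmem c x (Multiset.mem_of_mem_filter hx)).1.normalize_eq_self
      · intro p hp
        obtain ⟨x, hx, rfl⟩ := Multiset.mem_map.1 hp
        exact (hmem c x (Multiset.mem_of_mem_filter hx)).2.1
    have hcount : ∀ c (x : F[X] × ℕ) (i : Fin n), x.2 = (i : ℕ) + 1 →
        (s c).count x = (UniqueFactorizationMonoid.normalizedFactors (g c i)).count x.1 := by
      intro c x i hi
      rw [hfac, Multiset.count_map, Multiset.filter_filter, Multiset.count_eq_card_filter_eq]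
      refine congrArg Multiset.card (Multiset.filter_congr fun y _ => ?_)
      exact ⟨fun h => ⟨by rw [h], by rw [← h]; exact hi⟩,
        fun h => Prod.ext h.1 (by rw [h.2]; exact hi)⟩
    have hss : s c = s c' := by
      refine Multiset.ext.2 fun x => ?_
      by_cases hx : 1 ≤ x.2 ∧ x.2 ≤ n
      · have hi : x.2 = ((⟨x.2 - 1, by omega⟩ : Fin n) : ℕ) + 1 := by
          change x.2 = x.2 - 1 + 1; omega
        rw [hcount c x _ hi, hcount c' x _ hi, h]
      · rw [Multiset.count_eq_zero.2 fun hm => hx ⟨(hmem c x hm).2.2.2, hle c x hm⟩,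
          Multiset.count_eq_zero.2 fun hm => hx ⟨(hmem c' x hm).2.2.2, hle c' x hm⟩]
    obtain ⟨P, hP⟩ := isConj_of_divisors (hs c).1
      (show HasDivisors _ (s c) by rw [hss]; exact (hs c').1)
    have hconj : IsConj c.out c'.out := isConj_iff.2 ⟨P, by
      rw [mul_inv_eq_iff_eq_mul]
      exact Units.ext hP⟩
    rw [← c.out_eq, ← c'.out_eq]
    exact Quotient.sound hconj
  calc Nat.card (ConjClasses (GL (Fin n) F))
      ≤ Nat.card (tuples F n n) :=
        Nat.card_le_card_of_injective (fun c => ⟨g c, hgmem c⟩) fun c c' h => hginj (congrArg Subtype.val h)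
    _ = (tuples F n n).card := Nat.card_eq_finsetCard _
    _ ≤ _ := (card_tuples_le F n n).trans (tupleCount_le Fintype.card_pos hn)

/-- At least `q^n - q^(n-1)` classes. -/
theorem le_card_classes (hn : 1 ≤ n) :
    Fintype.card F ^ n - Fintype.card F ^ (n - 1) ≤ Nat.card (ConjClasses (GL (Fin n) F)) := by
  classical
  have hex : ∀ f : polys F n, ∃ A : GL (Fin n) F, (A : Matrix (Fin n) (Fin n) F).charpoly = f.1 := by
    rintro ⟨f, hf⟩
    obtain ⟨hm, hd, h0⟩ := spec_polys hf
    let pb := AdjoinRoot.powerBasis hm.ne_zero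
    have hdim : pb.dim = n := hd
    let M := Matrix.reindex (finCongr hdim) (finCongr hdim) (Algebra.leftMulMatrix pb.basis pb.gen)
    have hM : M.charpoly = f := by
      rw [Matrix.charpoly_reindex, charpoly_leftMulMatrix, AdjoinRoot.powerBasis_gen,
        AdjoinRoot.minpoly_root hm.ne_zero, hm.leadingCoeff, inv_one, map_one, mul_one]
    have hdet : M.det ≠ 0 := by
      rw [Matrix.det_eq_sign_charpoly_coeff, hM]
      exact mul_ne_zero (pow_ne_zero _ (neg_ne_zero.2 one_ne_zero)) h0
    exact ⟨Matrix.GeneralLinearGroup.mkOfDetNeZero M hdet, hM⟩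
  choose A hA using hex
  have hinj : Function.Injective fun f => ConjClasses.mk (A f) := by
    intro f f' h
    obtain ⟨P, hP⟩ := isConj_iff.1 (ConjClasses.mk_eq_mk_iff_isConj.1 h)
    apply Subtype.ext
    rw [← hA f, ← hA f', ← hP, Units.val_mul, Units.val_mul]
    rw [Matrix.coe_units_inv]
    exact (Matrix.charpoly_units_conj P _).symm
  have h := Nat.card_le_card_of_injective _ hinj
  rw [Nat.card_eq_finsetCard, card_polys] at h
  obtain ⟨e, rfl⟩ : ∃ e, n = e + 1 := ⟨n - 1, by omega⟩
  rwa [Nat.add_one_sub_one, pow_succ', ← Nat.sub_one_mul]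

end CfsgLib.SpecGL
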