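import Mathlib
import Cfsg.Agent.Lib.SpecGL.TupleCount

/-!
Numerical bounds for weighted tuple counts, used for class numbers of `SL_n(q)`.
-/

set_option autoImplicit false

namespace CfsgLib.SpecGL

open Finset

/-- `gcd(i, q-1)` -/
def gcdWeight (q i : ℕ) : ℕ := Nat.gcd i (q - 1)

/-- upper bound for `(q-1)` times the weighted number of tuples of fixed determinant -/
def weightCount (q : ℕ) : ℕ → ℕ → ℕ
  | 0, _ => 0
  | r + 1, N => ∑ d ∈ range (N / (r + 1) + 1),
      if d = 0 then weightCount q r N
      else polyCount q d *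
        (if N - (r + 1) * d = 0 then gcdWeight q (r + 1) ^ 2 else weightCount q r (N - (r + 1) * d))

/-- the excess of `weightCount` over `tupleCount` -/
def excessCount (q : ℕ) : ℕ → ℕ → ℕ
  | 0, _ => 0
  | r + 1, N => ∑ d ∈ range (N / (r + 1) + 1),
      if d = 0 then excessCount q r N
      else polyCount q d *
        (if N - (r + 1) * d = 0 then gcdWeight q (r + 1) ^ 2 - 1 else excessCount q r (N - (r + 1) * d))

/-- tuples with all parts at least `l` -/
def tailCount (q l : ℕ) : ℕ → ℕ → ℕ
  | 0, N => if N = 0 then 1 else 0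
  | r + 1, N => if r + 1 < l then (if N = 0 then 1 else 0) else
      ∑ d ∈ range (N / (r + 1) + 1), polyCount q d * tailCount q l r (N - (r + 1) * d)

variable {q : ℕ}

theorem tailCount_of_lt {l r : ℕ} (h : r < l) (N : ℕ) :
    tailCount q l r N = if N = 0 then 1 else 0 := by
  cases r with
  | zero => rfl
  | succ r => rw [tailCount, if_pos h]

theorem tailCount_succ {l r : ℕ} (h : l ≤ r + 1) (N : ℕ) :
    tailCount q l (r + 1) N =
      ∑ d ∈ range (N / (r + 1) + 1), polyCount q d * tailCount q l r (N - (r + 1) * d) := by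
  rw [tailCount, if_neg (by omega)]

theorem tailCount_one : ∀ r N : ℕ, tailCount q 1 r N = tupleCount q r N
  | 0, N => rfl
  | r + 1, N => by
    rw [tailCount_succ (by omega), tupleCount]
    exact Finset.sum_congr rfl fun d _ => by rw [tailCount_one r]

theorem tailCount_zero_right (l : ℕ) : ∀ r : ℕ, tailCount q l r 0 = 1
  | 0 => rfl
  | r + 1 => by
    rcases Nat.lt_or_ge (r + 1) l with h | h
    · rw [tailCount_of_lt h, if_pos rfl]
    · simp [tailCount_succ h, polyCount, tailCount_zero_right l r]

theorem tailCount_small {l : ℕ} : ∀ {r N : ℕ}, 1 ≤ N → N < l → tailCount q l r N = 0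
  | 0, N, h1, _ => by rw [tailCount, if_neg (by omega)]
  | r + 1, N, h1, h2 => by
    rcases Nat.lt_or_ge (r + 1) l with h | h
    · rw [tailCount_of_lt h, if_neg (by omega)]
    · rw [tailCount_succ h, Nat.div_eq_of_lt (by omega : N < r + 1)]
      simp [tailCount_small (r := r) h1 h2]

theorem tailCount_step {l : ℕ} (hl : 1 ≤ l) : ∀ {r N : ℕ}, l ≤ N →
    tailCount q l r N ≤ tailCount q (l + 1) r N + q * tailCount q l r (N - l) := by
  intro r
  induction r with
  | zero => intro N hN; simp [tailCount, show N ≠ 0 by omega]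
  | succ r ih =>
    intro N hN
    rcases Nat.lt_or_ge (r + 1) l with h | h
    · simp [tailCount_of_lt h, show N ≠ 0 by omega]
    rcases Nat.eq_or_lt_of_le h with h | h
    · -- the first part itself
      subst h
      rw [tailCount_succ le_rfl, tailCount_succ le_rfl, Nat.div_eq_sub_div (by omega) hN,
        Finset.sum_range_succ', Finset.mul_sum]
      refine le_trans ?_ (Nat.le_add_left _ _)
      simp only [tailCount_of_lt (Nat.lt_succ_self r), mul_zero, Nat.sub_zero,
        show N ≠ 0 by omega, if_false, Nat.add_zero]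
      refine Finset.sum_le_sum fun d _ => ?_
      rw [show N - (r + 1) * (d + 1) = N - (r + 1) - (r + 1) * d by
        rw [mul_add, mul_one, Nat.sub_sub, Nat.add_comm], ← mul_assoc]
      refine Nat.mul_le_mul_right _ ?_
      cases d with
      | zero => simp [polyCount]
      | succ d => simp only [polyCount, pow_succ]; exact le_of_eq (by ring)
    · rw [tailCount_succ (by omega), tailCount_succ (by omega), tailCount_succ (by omega)]
      calc ∑ d ∈ range (N / (r + 1) + 1), polyCount q d * tailCount q l r (N - (r + 1) * d)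
          ≤ ∑ d ∈ range (N / (r + 1) + 1),
              (polyCount q d * tailCount q (l + 1) r (N - (r + 1) * d) +
                if l + (r + 1) * d ≤ N then q * (polyCount q d * tailCount q l r (N - l - (r + 1) * d))
                else 0) := by
            refine Finset.sum_le_sum fun d _ => ?_
            split_ifs with hd
            · rw [Nat.sub_right_comm N l, ← mul_assoc q, mul_comm q, mul_assoc, ← mul_add]
              exact Nat.mul_le_mul_left _ (ih (by omega))
            · rw [add_zero]
              refine Nat.mul_le_mul_left _ ?_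
              rcases Nat.eq_zero_or_pos (N - (r + 1) * d) with h0 | h0
              · rw [h0, tailCount_zero_right, tailCount_zero_right]
              · rw [tailCount_small h0 (by omega)]; exact Nat.zero_le _
        _ ≤ _ := by
            rw [Finset.sum_add_distrib, Finset.mul_sum, ← Finset.sum_filter]
            refine Nat.add_le_add_left (Finset.sum_le_sum_of_subset ?_) _
            intro d hd
            rw [Finset.mem_filter] at hd
            rw [Finset.mem_range, Nat.lt_succ_iff, Nat.le_div_iff_mul_le (by omega), mul_comm]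
            omega

theorem tailCount_le_q {r : ℕ} : ∀ (k : ℕ) {l N : ℕ}, N + 1 - l = k → 1 ≤ l → l ≤ N → N < 2 * l →
    tailCount q l r N ≤ q := by
  intro k
  induction k with
  | zero => intro l N hk; omega
  | succ k ih =>
    intro l N hk hl hlN hN
    refine (tailCount_step hl hlN).trans ?_
    rcases Nat.eq_or_lt_of_le hlN with h | h
    · subst h
      rw [tailCount_small hl (Nat.lt_succ_self _), Nat.sub_self, tailCount_zero_right]
      omega
    · rw [tailCount_small (l := l) (N := N - l) (by omega) (by omega), mul_zero, add_zero]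
      exact ih (by omega) (by omega) h (by omega)

theorem tupleCount_le_pow (hq : 1 ≤ q) (r : ℕ) {N : ℕ} (hN : 1 ≤ N) :
    tupleCount q r N ≤ q ^ N :=
  Nat.le_of_mul_le_mul_left
    ((tupleCount_bound hq r N hN).trans (Nat.mul_le_mul_right _ (Nat.sub_le _ _)))
    (Nat.one_le_pow _ _ hq)

theorem tupleCount_le_pred (hq : 1 ≤ q) {n : ℕ} (hn : 1 ≤ n) :
    tupleCount q n n ≤ q ^ n - 1 :=
  Nat.le_of_mul_le_mul_left
    ((tupleCount_bound hq n n hn).trans (le_of_eq (mul_comm _ _))) (Nat.one_le_pow _ _ hq)

theorem tailCount_B1 (hq : 3 ≤ q) {r : ℕ} : ∀ (N l : ℕ), 1 ≤ l → l ≤ N →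
    2 * tailCount q l r N ≤ 3 * q ^ (N - l + 1) := by
  intro N
  induction N using Nat.strong_induction_on with
  | _ N ih =>
    intro l hl hlN
    induction hk : N - l generalizing l with
    | zero =>
      have := tailCount_le_q (q := q) (r := r) _ rfl hl hlN (by omega)
      rw [zero_add, pow_one]
      omega
    | succ k ihk =>
      have hpow : q ≤ q ^ (k + 1 + 1) := Nat.le_self_pow (by omega) _
      rcases Nat.lt_or_ge N (2 * l) with h2 | h2
      · have := tailCount_le_q (q := q) (r := r) _ rfl hl hlN h2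
        omega
      rcases Nat.eq_or_lt_of_le hl with h1 | h1
      · subst h1
        rw [tailCount_one, show k + 1 + 1 = N by omega]
        have := tupleCount_le_pow (q := q) (by omega) r (show 1 ≤ N by omega)
        omega
      have hs := tailCount_step (q := q) (r := r) hl hlN
      have ha := ihk (l + 1) (by omega) (by omega) (by omega)
      have hb := ih (N - l) (by omega) l hl (by omega)
      have hc : q ^ (N - l - l + 1) * q ≤ q ^ (k + 1) := by
        rw [← pow_succ]; exact Nat.pow_le_pow_right (by omega) (by omega)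
      have hb' : 2 * (q * tailCount q l r (N - l)) ≤ 3 * q ^ (k + 1) := by
        calc 2 * (q * tailCount q l r (N - l)) = q * (2 * tailCount q l r (N - l)) := by ring
          _ ≤ q * (3 * q ^ (N - l - l + 1)) := Nat.mul_le_mul_left _ hb
          _ = 3 * (q ^ (N - l - l + 1) * q) := by ring
          _ ≤ _ := Nat.mul_le_mul_left _ hc
      rw [pow_succ q (k + 1)]
      nlinarith

theorem tailCount_B2 (hq : 3 ≤ q) {r : ℕ} : ∀ (N l : ℕ), 1 ≤ l → l ≤ N →
    tailCount q l r N ≤ q + 2 * q ^ (N + 2 - 2 * l) := by
  intro N l hl hlN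
  induction hk : N - l generalizing l with
  | zero => exact (tailCount_le_q _ rfl hl hlN (by omega)).trans (Nat.le_add_right _ _)
  | succ k ihk =>
    rcases Nat.lt_or_ge N (2 * l) with h2 | h2
    · exact (tailCount_le_q _ rfl hl hlN h2).trans (Nat.le_add_right _ _)
    have hs := tailCount_step (q := q) (r := r) hl hlN
    have ha := ihk (l + 1) (by omega) (by omega) (by omega)
    have hb := tailCount_B1 hq (r := r) (N - l) l hl (by omega)
    rw [show N + 2 - 2 * (l + 1) = N - 2 * l by omega] at ha
    rw [show N - l - l + 1 = N - 2 * l + 1 by omega, pow_succ] at hb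
    rw [show N + 2 - 2 * l = N - 2 * l + 2 by omega, pow_add, sq]
    generalize q ^ (N - 2 * l) = P at *
    have h9 : 9 * P ≤ P * (q * q) := by
      rw [mul_comm P]; exact Nat.mul_le_mul_right _ (by nlinarith)
    nlinarith

theorem tailCount_B3 (hq : 3 ≤ q) {r : ℕ} : ∀ (N l : ℕ), 1 ≤ l → l ≤ N →
    (N < 3 * l → tailCount q l r N ≤ q + (N - l) * q ^ 2) ∧
    (3 * l ≤ N + 3 →
      4 * tailCount q l r N ≤ 4 * (q + (N - l) * q ^ 2) + 9 * q ^ (N + 3 - 3 * l)) := by
  intro N l hl hlN
  induction hk : N - l generalizing l with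
  | zero =>
    have := tailCount_le_q (q := q) (r := r) _ rfl hl hlN (by omega)
    exact ⟨fun _ => by omega, fun _ => by omega⟩
  | succ k ihk =>
    rcases Nat.lt_or_ge N (2 * l) with h2 | h2
    · have := tailCount_le_q (q := q) (r := r) _ rfl hl hlN h2
      exact ⟨fun _ => by omega, fun _ => by omega⟩
    have hs := tailCount_step (q := q) (r := r) hl hlN
    obtain ⟨hA, hB⟩ := ihk (l + 1) (by omega) (by omega) (by omega)
    rw [Nat.add_mul k 1, one_mul]
    have h3a : N < 3 * l → tailCount q l r N ≤ q + (k * q ^ 2 + q ^ 2) := fun h3 => by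
      have ha := hA (by omega)
      have hb := tailCount_le_q (q := q) (r := r) _ rfl hl (show l ≤ N - l by omega) (by omega)
      have hb' : q * tailCount q l r (N - l) ≤ q ^ 2 := by
        rw [sq]; exact Nat.mul_le_mul_left _ hb
      omega
    refine ⟨h3a, fun h3 => ?_⟩
    rcases Nat.lt_or_ge N (3 * l) with h3' | h3'
    · have := h3a h3'
      omega
    have ha := hB (by omega)
    have hb := tailCount_B2 hq (r := r) (N - l) l hl (by omega)
    rw [show N + 3 - 3 * (l + 1) = N - 3 * l by omega] at ha
    rw [show N - l + 2 - 2 * l = N - 3 * l + 2 by omega, pow_add] at hb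
    rw [show N + 3 - 3 * l = N - 3 * l + 3 by omega, pow_add]
    have hb' := Nat.mul_le_mul_left q hb
    generalize q ^ (N - 3 * l) = P at *
    have h27 : 27 * P ≤ P * q ^ 3 := by
      rw [mul_comm P]
      exact Nat.mul_le_mul_right _ (le_trans (by norm_num) (Nat.pow_le_pow_left hq 3))
    nlinarith

theorem gcdWeight_le_left (q : ℕ) {i : ℕ} (hi : 1 ≤ i) : gcdWeight q i ≤ i :=
  Nat.le_of_dvd hi (Nat.gcd_dvd_left _ _)

theorem gcdWeight_le_right (hq : 2 ≤ q) (i : ℕ) : gcdWeight q i ≤ q - 1 :=
  Nat.le_of_dvd (by omega) (Nat.gcd_dvd_right _ _)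

theorem gcdWeight_pos {i : ℕ} (hi : 1 ≤ i) : 1 ≤ gcdWeight q i :=
  Nat.gcd_pos_of_pos_left _ hi

theorem weightCount_eq : ∀ (r N : ℕ), 1 ≤ N →
    weightCount q r N = tupleCount q r N + excessCount q r N
  | 0, N, hN => by simp [weightCount, tupleCount, excessCount, show N ≠ 0 by omega]
  | r + 1, N, hN => by
    rw [weightCount, tupleCount, excessCount, ← Finset.sum_add_distrib]
    refine Finset.sum_congr rfl fun d _ => ?_
    by_cases hd : d = 0
    · subst hd
      simp [polyCount, weightCount_eq r N hN]
    rw [if_neg hd, if_neg hd, ← mul_add]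
    by_cases hM : N - (r + 1) * d = 0
    · rw [if_pos hM, if_pos hM, hM, tupleCount_zero_right]
      have : 1 ≤ gcdWeight q (r + 1) ^ 2 := Nat.one_le_pow _ _ (gcdWeight_pos (by omega))
      congr 1
      omega
    · rw [if_neg hM, if_neg hM, weightCount_eq r _ (Nat.one_le_iff_ne_zero.2 hM)]

theorem weightCount_stable (q : ℕ) {m : ℕ} : ∀ {r : ℕ}, m ≤ r → weightCount q r m = weightCount q m m := by
  intro r hr
  induction r, hr using Nat.le_induction with
  | base => rfl
  | succ r hr ih =>
    rw [weightCount, Nat.div_eq_of_lt (by omega : m < r + 1), ← ih]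
    simp

theorem excessCount_le (a G R : ℕ) (h2 : gcdWeight q 2 ^ 2 - 1 ≤ a)
    (hG : ∀ i, 3 ≤ i → i ≤ R → gcdWeight q i ^ 2 - 1 ≤ a + G) : ∀ r, r ≤ R → ∀ N, 1 ≤ N →
    excessCount q r N ≤ a * tailCount q 2 r N + G * tailCount q 3 r N := by
  intro r
  induction r with
  | zero => intro _ N _; simp [excessCount]
  | succ r ih =>
    intro hR N hN
    rcases r with _ | _ | r
    · refine le_of_eq_of_le ?_ (Nat.zero_le _)
      rw [excessCount]
      refine Finset.sum_eq_zero fun d _ => ?_
      simp [excessCount, gcdWeight]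
    · have h1 : ∀ M, excessCount q 1 M = 0 := fun M => by
        rw [excessCount]
        exact Finset.sum_eq_zero fun d _ => by simp [excessCount, gcdWeight]
      refine le_trans ?_ (Nat.le_add_right _ _)
      rw [excessCount, tailCount_succ (by omega), Finset.mul_sum]
      refine Finset.sum_le_sum fun d _ => ?_
      split_ifs with hd hM
      · rw [h1]; exact Nat.zero_le _
      · simp only [one_add_one_eq_two] at hM ⊢
        rw [hM, tailCount_zero_right, mul_one, mul_comm]
        exact Nat.mul_le_mul_right _ h2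
      · rw [h1]; simp
    · rw [excessCount, tailCount_succ (by omega), tailCount_succ (by omega), Finset.mul_sum,
        Finset.mul_sum, ← Finset.sum_add_distrib]
      refine Finset.sum_le_sum fun d _ => ?_
      split_ifs with hd hM
      · subst hd
        simpa [polyCount] using ih (by omega) N hN
      · rw [hM, tailCount_zero_right, tailCount_zero_right, mul_one, ← add_mul, mul_comm]
        exact Nat.mul_le_mul_right _ (hG _ (by omega) hR)
      · rw [mul_left_comm a, mul_left_comm G, ← mul_add]
        exact Nat.mul_le_mul_left _ (ih (by omega) _ (Nat.one_le_iff_ne_zero.2 hM))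

theorem excessCount_two {r : ℕ} {N : ℕ} (hN : 1 ≤ N) : excessCount 2 r N = 0 := by
  have := excessCount_le (q := 2) 0 0 r (by simp [gcdWeight])
    (fun i _ _ => by simp [gcdWeight]) r le_rfl N hN
  omega

theorem weightCount_one_one : weightCount q 1 1 = q - 1 := by
  simp [weightCount, gcdWeight, polyCount, Finset.sum_range_succ]

theorem weightCount_two_two (hq : 2 ≤ q) :
    weightCount q 2 2 ≤ (q - 1) * (q + 4) ∧ 2 * weightCount q 2 2 ≤ 5 * ((q - 1) * q) := by
  have h : weightCount q 2 2 = (q - 1) * q + (q - 1) * gcdWeight q 2 ^ 2 := by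
    simp [weightCount, gcdWeight, polyCount, Finset.sum_range_succ]
  rw [h]
  have h2 : gcdWeight q 2 ≤ 2 := gcdWeight_le_left q (by omega)
  rcases Nat.eq_or_lt_of_le hq with hq2 | hq3
  · subst hq2
    simp [gcdWeight]
  · have h4 : gcdWeight q 2 ^ 2 ≤ 4 := le_trans (Nat.pow_le_pow_left h2 2) (by norm_num)
    have := Nat.mul_le_mul_left (q - 1) h4
    have := Nat.mul_le_mul_left (q - 1) (show 3 ≤ q by omega)
    constructor <;> rw [mul_add] at * <;> omega

theorem weightCount_three (hq : 2 ≤ q) :
    weightCount q 3 3 ≤ (q - 1) * (q ^ 2 + 3 * q) := by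
  rw [weightCount_eq 3 3 (by omega)]
  have hK : tupleCount q 3 3 = (q - 1) * q ^ 2 + (q - 1) * (q - 1) + (q - 1) := by
    simp [tupleCount, polyCount, Finset.sum_range_succ]
  have hE : excessCount q 3 3 = (q - 1) * (gcdWeight q 3 ^ 2 - 1) := by
    simp [excessCount, polyCount, gcdWeight, Finset.sum_range_succ]
  rw [hK, hE]
  have hg : gcdWeight q 3 ^ 2 - 1 + 1 + (q - 1) ≤ 3 * q := by
    rcases Nat.lt_or_ge q 4 with h | h
    · interval_cases q <;> simp [gcdWeight]
    · have := Nat.pow_le_pow_left (gcdWeight_le_left q (i := 3) (by omega)) 2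
      omega
  calc (q - 1) * q ^ 2 + (q - 1) * (q - 1) + (q - 1) + (q - 1) * (gcdWeight q 3 ^ 2 - 1)
      = (q - 1) * (q ^ 2 + (gcdWeight q 3 ^ 2 - 1 + 1 + (q - 1))) := by ring
    _ ≤ _ := Nat.mul_le_mul_left _ (Nat.add_le_add_left hg _)

theorem excessCount_bound (hq : 2 ≤ q) {n : ℕ} (hn : 4 ≤ n) :
    excessCount q n n ≤ q ^ (n - 2) * (2 * q - 3) := by
  have hsq : ∀ {b i : ℕ}, gcdWeight q i ≤ b → gcdWeight q i ^ 2 - 1 ≤ b ^ 2 - 1 := fun h =>
    Nat.sub_le_sub_right (Nat.pow_le_pow_left h 2) 1
  have h22 : gcdWeight q 2 ^ 2 - 1 ≤ 3 := hsq (gcdWeight_le_left q (by omega))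
  rcases Nat.eq_or_lt_of_le hq with hq2 | hq3
  · subst hq2; rw [excessCount_two (by omega)]; exact Nat.zero_le _
  rcases Nat.lt_or_ge q 5 with hq5 | hq5
  · rcases (show q = 3 ∨ q = 4 by omega) with rfl | rfl
    · have h := excessCount_le (q := 3) 3 0 n h22
        (fun i _ _ => hsq (gcdWeight_le_right (by omega) i)) n le_rfl n (by omega)
      rw [zero_mul, add_zero] at h
      refine h.trans ?_
      rcases Nat.lt_or_ge n 7 with hn7 | hn7
      · interval_cases n <;> decide
      · have hb := (tailCount_B3 (q := 3) le_rfl (r := n) n 2 (by omega) (by omega)).2 (by omega)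
        rw [show n + 3 - 3 * 2 = (n - 7) + 4 by omega, pow_add, show n - 2 = (n - 7) + 5 by omega] at hb
        rw [show n - 2 = (n - 7) + 5 by omega, pow_add]
        have hB : ∀ k : ℕ, 1 + 2 * k ≤ 3 ^ k := by
          intro k
          induction k with
          | zero => simp
          | succ k ih => rw [pow_succ]; omega
        have := hB (n - 7)
        omega
    · have h := excessCount_le (q := 4) 0 8 n (by decide)
        (fun i _ _ => by simpa using hsq (gcdWeight_le_right (q := 4) (by omega) i)) n le_rfl n (by omega)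
      rw [zero_mul, zero_add] at h
      refine h.trans ?_
      have hb := tailCount_B2 (q := 4) (by omega) (r := n) n 3 (by omega) (by omega)
      rw [show n + 2 - 2 * 3 = n - 4 by omega] at hb
      rw [show n - 2 = (n - 4) + 2 by omega, pow_add]
      have : 1 ≤ 4 ^ (n - 4) := Nat.one_le_pow _ _ (by omega)
      omega
  · rcases Nat.eq_or_lt_of_le hn with hn4 | hn5
    · subst hn4
      have h := excessCount_le (q := q) 3 12 4 h22 (fun i hi hi4 => (hsq (gcdWeight_le_left q
        (i := i) (by omega))).trans (by interval_cases i <;> norm_num)) 4 le_rfl 4 (by omega)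
      have h2 : tailCount q 2 4 4 = (q - 1) * q + (q - 1) := by
        simp [tailCount, polyCount, Finset.sum_range_succ]
      have h3 : tailCount q 3 4 4 = q - 1 := by
        simp [tailCount, polyCount, Finset.sum_range_succ]
      rw [h2, h3] at h
      refine h.trans ?_
      obtain ⟨t, rfl⟩ : ∃ t, q = t + 5 := ⟨q - 5, by omega⟩
      rw [show t + 5 - 1 = t + 4 by omega, show 2 * (t + 5) - 3 = 2 * t + 7 by omega,
        show 4 - 2 = 2 from rfl]
      nlinarith
    · have h := excessCount_le (q := q) 3 (q ^ 2) n h22 (fun i _ _ =>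
        ((hsq (gcdWeight_le_right hq i)).trans ((Nat.sub_le _ _).trans
          (Nat.pow_le_pow_left (Nat.sub_le _ _) 2))).trans (Nat.le_add_left _ _)) n le_rfl n (by omega)
      refine h.trans ?_
      have hb := (tailCount_B3 (q := q) (by omega) (r := n) n 2 (by omega) (by omega)).2 (by omega)
      have hc := tailCount_B2 (q := q) (by omega) (r := n) n 3 (by omega) (by omega)
      rw [show n + 3 - 3 * 2 = n - 5 + 2 by omega, show n - 2 = n - 5 + 3 by omega, pow_add] at hb
      rw [show n + 2 - 2 * 3 = n - 5 + 1 by omega, pow_add, pow_one] at hc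
      rw [show n - 2 = n - 5 + 3 by omega, pow_add]
      have hB : ∀ k : ℕ, 1 + 4 * k ≤ q ^ k := by
        intro k
        induction k with
        | zero => simp
        | succ k ih =>
          rw [pow_succ]
          have := Nat.mul_le_mul_left (q ^ k) hq5
          have : 1 ≤ q ^ k := Nat.one_le_pow _ _ (by omega)
          omega
      have hP := hB (n - 5)
      have hc' := Nat.mul_le_mul_left (q ^ 2) hc
      generalize n - 5 = k at *
      generalize q ^ k = P at *
      obtain ⟨t, rfl⟩ : ∃ t, q = t + 5 := ⟨q - 5, by omega⟩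
      rw [show 2 * (t + 5) - 3 = 2 * t + 7 by omega]
      have e1 : 0 ≤ t * t := Nat.zero_le _
      have key : 12 * (t + 5) + 12 * ((k + 3) * (t + 5) ^ 2) + 27 * (P * (t + 5) ^ 2)
          + 4 * (t + 5) ^ 3 + 8 * (P * (t + 5) ^ 3) ≤ 4 * (P * (t + 5) ^ 3 * (2 * t + 7)) := by
        have h1 : (12 * (k + 3) + 4 * (t + 5) + 3) ≤ P * (8 * t * t + 60 * t + 73) := by
          have a1 : 73 * (1 + 4 * k) ≤ P * 73 := by nlinarith
          have a2 : 60 * t ≤ P * (60 * t) := Nat.le_mul_of_pos_left _ (by omega)
          nlinarith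
        have h2 := Nat.mul_le_mul_right ((t + 5) ^ 2) h1
        nlinarith
      nlinarith

/-- The main numerical bound. -/
theorem weightCount_le (hq : 2 ≤ q) {n : ℕ} (hn : 3 ≤ n) :
    weightCount q n n ≤ (q - 1) * (q ^ (n - 1) + 3 * q ^ (n - 2)) := by
  rcases Nat.eq_or_lt_of_le hn with h3 | h4
  · subst h3; simpa using weightCount_three hq
  rw [weightCount_eq n n (by omega)]
  have hK := tupleCount_le_pred (q := q) (n := n) (by omega) (by omega)
  have hE := excessCount_bound hq h4
  obtain ⟨t, rfl⟩ : ∃ t, q = t + 2 := ⟨q - 2, by omega⟩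
  rw [show (t + 2) ^ (n - 1) = (t + 2) ^ (n - 2) * (t + 2) by rw [← pow_succ]; congr 1; omega]
  rw [show (t + 2) ^ n = (t + 2) ^ (n - 2) * (t + 2) * (t + 2) by
    rw [← pow_succ, ← pow_succ]; congr 1; omega] at hK
  generalize (t + 2) ^ (n - 2) = P at *
  rw [show 2 * (t + 2) - 3 = 2 * t + 1 by omega] at hE
  rw [show t + 2 - 1 = t + 1 by omega]
  have : (tupleCount (t + 2) n n + excessCount (t + 2) n n) ≤ P * (t + 2) * (t + 2) + P * (2 * t + 1) := by
    omega
  nlinarith

end CfsgLib.SpecGL
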