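import Mathlib
import Cfsg.Agent.Lib.SpecGL.WeightCount

/-!
Weighted count of tuples with prescribed determinant.
-/

set_option autoImplicit false

namespace CfsgLib.SpecGL

open Polynomial Finset

variable {F : Type*} [Field F]

/-- determinant of multiplication by `X` on `F[X]/(g)` -/
noncomputable def polyDet (g : F[X]) : F := (-1) ^ g.natDegree * g.coeff 0

theorem polyDet_one : polyDet (1 : F[X]) = 1 := by simp [polyDet]

theorem polyDet_mul {a b : F[X]} (ha : a.Monic) (hb : b.Monic) :
    polyDet (a * b) = polyDet a * polyDet b := by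
  rw [polyDet, polyDet, polyDet, ha.natDegree_mul hb, mul_coeff_zero, pow_add]
  ring

theorem polyDet_pow {a : F[X]} (ha : a.Monic) : ∀ e : ℕ, polyDet (a ^ e) = polyDet a ^ e
  | 0 => by simp [polyDet_one]
  | e + 1 => by rw [pow_succ, polyDet_mul (ha.pow e) ha, polyDet_pow ha e, pow_succ]

theorem polyDet_multiset_prod : ∀ {s : Multiset F[X]}, (∀ a ∈ s, a.Monic) →
    polyDet s.prod = (s.map polyDet).prod := by
  intro s
  induction s using Multiset.induction with
  | empty => intro _; simp [polyDet_one]
  | cons a s ih =>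
    intro h
    rw [Multiset.prod_cons, Multiset.map_cons, Multiset.prod_cons,
      polyDet_mul (h a (Multiset.mem_cons_self a s))
        (by simpa using monic_multiset_prod_of_monic s id fun b hb => h b (Multiset.mem_cons_of_mem hb)),
      ih fun b hb => h b (Multiset.mem_cons_of_mem hb)]

/-- determinant attached to a tuple -/
noncomputable def tupleDet {m : ℕ} (g : Fin m → F[X]) : F :=
  ∏ i : Fin m, polyDet (g i) ^ ((i : ℕ) + 1)

open scoped Classical in
/-- the weight of the least non-trivial index -/
noncomputable def leastWeight (q : ℕ) : (m : ℕ) → (Fin m → F[X]) → ℕ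
  | 0, _ => 1
  | m + 1, g => if ∀ i : Fin m, (g i.castSucc).natDegree = 0 then gcdWeight q (m + 1)
      else leastWeight q m (Fin.init g)

theorem leastWeight_spec (q : ℕ) : ∀ {m : ℕ} {g : Fin m → F[X]}, (∃ i, (g i).natDegree ≠ 0) →
    ∃ i : Fin m, (g i).natDegree ≠ 0 ∧ leastWeight q m g = gcdWeight q ((i : ℕ) + 1)
  | 0, _, ⟨i, _⟩ => i.elim0
  | m + 1, g, ⟨i, hi⟩ => by
    classical
    rw [leastWeight]
    split_ifs with h
    · refine ⟨Fin.last m, ?_, by simp⟩
      induction i using Fin.lastCases with
      | last => exact hi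
      | cast i => exact absurd (h i) hi
    · push Not at h
      obtain ⟨j, hj⟩ := h
      obtain ⟨k, hk, hkw⟩ := leastWeight_spec q (g := Fin.init g) ⟨j, hj⟩
      exact ⟨k.castSucc, hk, by simpa using hkw⟩

variable [Fintype F]

theorem spec_tuples : ∀ {m N : ℕ} {g : Fin m → F[X]}, g ∈ tuples F m N →
    (∀ i, (g i).Monic ∧ (g i).coeff 0 ≠ 0) ∧ (∑ i : Fin m, ((i : ℕ) + 1) * (g i).natDegree) = N
  | 0, N, g, h => by
    rw [tuples] at h
    split_ifs at h with hN
    · exact ⟨fun i => i.elim0, by simp [hN]⟩
    · simp at h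
  | m + 1, N, g, h => by
    letI := Classical.decEq (Fin (m + 1) → F[X])
    rw [tuples, Finset.mem_biUnion] at h
    obtain ⟨d, hd, h⟩ := h
    obtain ⟨⟨x, t⟩, hxt, rfl⟩ := Finset.mem_image.1 h
    rw [Finset.mem_product] at hxt
    obtain ⟨h1, h2⟩ := spec_tuples hxt.2
    obtain ⟨hm, hdeg, h0⟩ := spec_polys hxt.1
    refine ⟨fun i => ?_, ?_⟩
    · induction i using Fin.lastCases with
      | last => simpa using ⟨hm, h0⟩
      | cast i => simpa using h1 i
    · rw [Fin.sum_univ_castSucc]
      simp only [Fin.snoc_castSucc, Fin.snoc_last, Fin.val_castSucc, Fin.val_last, h2, hdeg]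
      rw [Finset.mem_range, Nat.lt_succ_iff, Nat.le_div_iff_mul_le (by omega), mul_comm] at hd
      omega

theorem card_pow_eq_le (k : ℕ) {c : F} (hc : c ≠ 0) (u : F) [DecidableEq F] :
    ((Finset.univ : Finset {a : F // a ≠ 0}).filter fun a : {a : F // a ≠ 0} => (c * (a : F)) ^ k = u).card
      ≤ gcdWeight (Fintype.card F) k := by
  rcases Finset.eq_empty_or_nonempty
    ((Finset.univ : Finset {a : F // a ≠ 0}).filter fun a : {a : F // a ≠ 0} => (c * (a : F)) ^ k = u)
    with he | ⟨a₀, ha₀⟩
  · rw [he]; simp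
  simp only [Finset.mem_filter, Finset.mem_univ, true_and] at ha₀
  have hker : Nat.card (powMonoidHom k : Fˣ →* Fˣ).ker = gcdWeight (Fintype.card F) k := by
    rw [IsCyclic.card_powMonoidHom_ker, Nat.card_units, Nat.card_eq_fintype_card, Nat.gcd_comm]
    rfl
  rw [← hker, ← Nat.card_eq_finsetCard]
  refine Nat.card_le_card_of_injective (fun a => ⟨Units.mk0 ((a : {a : F // a ≠ 0}) : F) (a : {a : F // a ≠ 0}).2 *
    (Units.mk0 (a₀ : F) a₀.2)⁻¹, ?_⟩) ?_
  · have ha := (Finset.mem_filter.1 a.2).2
    have h' := ha.trans ha₀.symm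
    rw [mul_pow, mul_pow] at h'
    have h := mul_left_cancel₀ (pow_ne_zero k hc) h'
    rw [MonoidHom.mem_ker, powMonoidHom_apply]
    ext
    simp only [mul_pow, inv_pow, Units.val_mul, Units.val_inv_eq_inv_val, Units.val_pow_eq_pow_val,
      Units.val_mk0, Units.val_one, h]
    exact mul_inv_cancel₀ (pow_ne_zero k a₀.2)
  · intro a b h
    have h' := mul_right_cancel (congrArg Subtype.val h)
    exact Subtype.ext (Subtype.ext (congrArg Units.val h'))

theorem card_polys_det (k : ℕ) (e : ℕ) (u : F) [inst : DecidableEq F] :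
    ((polys F (e + 1)).filter fun x => polyDet x ^ k = u).card ≤
      gcdWeight (Fintype.card F) k * Fintype.card F ^ e := by
  obtain rfl : inst = Classical.decEq F := Subsingleton.elim _ _
  letI := Classical.decEq F
  have hpd : ∀ x : {a : F // a ≠ 0} × (Fin e → F),
      polyDet (X ^ (e + 1) + C (x.1 : F) + X * ∑ j : Fin e, C (x.2 j) * X ^ (j : ℕ)) =
        (-1) ^ (e + 1) * (x.1 : F) := by
    rintro ⟨a, c⟩
    have hmem : (X ^ (e + 1) + C (a : F) + X * ∑ j : Fin e, C (c j) * X ^ (j : ℕ) : F[X]) ∈ polys F (e + 1) := by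
      rw [polys]
      exact Finset.mem_image.2 ⟨(a, c), Finset.mem_univ _, rfl⟩
    rw [polyDet, (spec_polys hmem).2.1, coeff_shape, if_pos rfl]
  rw [polys, Finset.filter_image]
  refine Finset.card_image_le.trans ?_
  calc _ ≤ (((Finset.univ : Finset {a : F // a ≠ 0}).filter
          fun a : {a : F // a ≠ 0} => ((-1) ^ (e + 1) * (a : F)) ^ k = u) ×ˢ
          (Finset.univ : Finset (Fin e → F))).card := by
        refine Finset.card_le_card fun x hx => ?_
        simp only [Finset.mem_filter, Finset.mem_univ, true_and, hpd] at hx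
        simp [hx]
    _ ≤ _ := by
      rw [Finset.card_product, Finset.card_univ, Fintype.card_fun, Fintype.card_fin]
      exact Nat.mul_le_mul_right _ (card_pow_eq_le k (pow_ne_zero _ (neg_ne_zero.2 one_ne_zero)) u)

theorem sum_biUnion_le' {α β : Type*} [DecidableEq β] (s : Finset α) (t : α → Finset β) (f : β → ℕ) :
    ∑ b ∈ s.biUnion t, f b ≤ ∑ a ∈ s, ∑ b ∈ t a, f b := by
  classical
  induction s using Finset.induction with
  | empty => simp
  | insert a s has ih =>
    rw [Finset.biUnion_insert, Finset.sum_insert has]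
    refine le_trans ?_ (Nat.add_le_add_left ih _)
    rw [← Finset.sum_union_inter]
    exact Nat.le_add_right _ _

omit [Fintype F] in
theorem tupleDet_snoc {m : ℕ} (t : Fin m → F[X]) (x : F[X]) :
    tupleDet (Fin.snoc t x : Fin (m + 1) → F[X]) = tupleDet t * polyDet x ^ (m + 1) := by
  rw [tupleDet, tupleDet, Fin.prod_univ_castSucc]
  simp

/-- The weighted number of tuples with given determinant. -/
theorem weighted_tuples_le [DecidableEq F] : ∀ (r N : ℕ), 1 ≤ N → ∀ u : F,
    (Fintype.card F - 1) * ∑ g ∈ tuples F r N, (if tupleDet g = u then leastWeight (Fintype.card F) r g else 0)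
      ≤ weightCount (Fintype.card F) r N := by
  intro r
  induction r with
  | zero =>
    intro N hN u
    simp [tuples, show N ≠ 0 by omega]
  | succ r ih =>
    intro N hN u
    letI := Classical.decEq (Fin (r + 1) → F[X])
    rw [tuples, weightCount, Finset.mul_sum]
    refine (sum_biUnion_le' _ _ _).trans (Finset.sum_le_sum fun d hd => ?_)
    refine (Finset.sum_image_le_of_nonneg fun _ _ => Nat.zero_le _).trans ?_
    rw [Finset.sum_product]
    have hinit : ∀ (x : F[X]) (t : Fin r → F[X]), Fin.init (Fin.snoc t x : Fin (r + 1) → F[X]) = t :=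
      fun x t => Fin.init_snoc _ _
    have hpos : ∀ {M : ℕ}, 1 ≤ M → ∀ t ∈ tuples F r M, ∀ x : F[X],
        leastWeight (Fintype.card F) (r + 1) (Fin.snoc t x) = leastWeight (Fintype.card F) r t := by
      intro M hM t ht x
      rw [leastWeight, if_neg, hinit]
      intro h
      simp only [Fin.snoc_castSucc] at h
      have := (spec_tuples ht).2
      simp only [h, mul_zero, Finset.sum_const_zero] at this
      omega
    by_cases hd0 : d = 0
    · subst hd0
      rw [if_pos rfl, polys, Finset.sum_singleton, mul_zero, Nat.sub_zero]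
      refine le_trans (le_of_eq ?_) (ih N hN u)
      rw [Finset.mul_sum]
      refine Finset.sum_congr rfl fun t ht => ?_
      rw [tupleDet_snoc, polyDet_one, one_pow, mul_one, hpos hN t ht]
    rw [if_neg hd0]
    obtain ⟨e, rfl⟩ : ∃ e, d = e + 1 := ⟨d - 1, by omega⟩
    by_cases hM : N - (r + 1) * (e + 1) = 0
    · rw [if_pos hM, hM]
      have hone : ∀ t ∈ tuples F r 0, t = fun _ => 1 := fun t ht => funext fun i => by
        have h := (spec_tuples ht).2
        rw [Finset.sum_eq_zero_iff] at h
        have := h i (Finset.mem_univ i)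
        exact ((spec_tuples ht).1 i).1.natDegree_eq_zero.1 (by simpa using this)
      have hone' : tuples F r 0 = {fun _ => 1} := by
        refine Finset.eq_singleton_iff_unique_mem.2 ⟨mem_tuples (fun i => ?_) ?_, hone⟩
        · simp
        · simp
      rw [hone']
      calc ∑ x ∈ polys F (e + 1), ∑ t ∈ ({fun _ => 1} : Finset (Fin r → F[X])),
            (Fintype.card F - 1) * (if tupleDet (Fin.snoc t x : Fin (r + 1) → F[X]) = u then
              leastWeight (Fintype.card F) (r + 1) (Fin.snoc t x) else 0)
          = ∑ x ∈ (polys F (e + 1)).filter (fun x => polyDet x ^ (r + 1) = u),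
              (Fintype.card F - 1) * gcdWeight (Fintype.card F) (r + 1) := by
            rw [Finset.sum_filter]
            refine Finset.sum_congr rfl fun x _ => ?_
            have h1 : tupleDet (fun _ : Fin r => (1 : F[X])) = 1 := by simp [tupleDet, polyDet_one]
            rw [Finset.sum_singleton, tupleDet_snoc, h1, one_mul, leastWeight,
              if_pos fun i => by simp]
            split_ifs <;> simp
        _ ≤ _ := by
            rw [Finset.sum_const, smul_eq_mul, polyCount]
            refine (Nat.mul_le_mul_right _ (card_polys_det (r + 1) e u)).trans (le_of_eq ?_)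
            ring
    · rw [if_neg hM]
      rw [← card_polys, Finset.card_eq_sum_ones, Finset.sum_mul]
      refine Finset.sum_le_sum fun x hx => ?_
      rw [one_mul]
      have hx0 : polyDet x ^ (r + 1) ≠ 0 :=
        pow_ne_zero _ (mul_ne_zero (pow_ne_zero _ (neg_ne_zero.2 one_ne_zero)) (spec_polys hx).2.2)
      refine le_trans (le_of_eq ?_) (ih _ (Nat.one_le_iff_ne_zero.2 hM) (u / polyDet x ^ (r + 1)))
      rw [Finset.mul_sum]
      refine Finset.sum_congr rfl fun t ht => ?_
      rw [tupleDet_snoc, hpos (Nat.one_le_iff_ne_zero.2 hM) t ht]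
      simp only [eq_div_iff hx0]

end CfsgLib.SpecGL
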