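import Mathlib
import Cfsg.Agent.Lib.SpecGL.ClassBound
import Cfsg.Agent.Lib.SpecGL.TupleWeight

/-!
Elementary divisors: conjugation, scaling, uniqueness, determinant, determinants of centralizers.
-/

set_option autoImplicit false

namespace CfsgLib.SpecGL

open Polynomial Matrix

universe u

variable {F : Type u} [Field F] {n : ℕ}

theorem exists_intertwine {A : Matrix (Fin n) (Fin n) F} {s : Multiset (F[X] × ℕ)}
    (h : HasDivisors A s) :
    ∃ (ι : Type u) (_ : Fintype ι) (d : ι → F[X] × ℕ), Finset.univ.val.map d = s ∧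
      ∃ Ψ : (Fin n → F) ≃ₗ[F] ((i : ι) → F[X] ⧸ Ideal.span {(d i).1 ^ (d i).2}),
        ∀ v, Ψ (A *ᵥ v) = (X : F[X]) • Ψ v := by
  obtain ⟨ι, hι, d, hd, ⟨Φ⟩⟩ := h
  refine ⟨ι, hι, d, hd, (Module.AEval'.of (Matrix.toLin' A)).trans (Φ.restrictScalars F), fun v => ?_⟩
  simp only [LinearEquiv.trans_apply, LinearEquiv.restrictScalars_apply]
  rw [← map_smul, Module.AEval'.X_smul_of, Matrix.toLin'_apply]

theorem hasDivisors_of_intertwine {A : Matrix (Fin n) (Fin n) F} {s : Multiset (F[X] × ℕ)}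
    {ι : Type u} [Fintype ι] {d : ι → F[X] × ℕ} (hd : Finset.univ.val.map d = s)
    (Ψ : (Fin n → F) ≃ₗ[F] ((i : ι) → F[X] ⧸ Ideal.span {(d i).1 ^ (d i).2}))
    (hΨ : ∀ v, Ψ (A *ᵥ v) = (X : F[X]) • Ψ v) : HasDivisors A s := by
  let φ := (Module.AEval'.of (Matrix.toLin' A)).symm.trans Ψ
  have hX : ∀ y, φ ((X : F[X]) • y) = (X : F[X]) • φ y := fun y => by
    simp only [φ, LinearEquiv.trans_apply]
    rw [Module.AEval'.of_symm_X_smul, Matrix.toLin'_apply, hΨ]
  have hall : ∀ (f : F[X]) y, φ (f • y) = f • φ y := by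
    intro f
    induction f using Polynomial.induction_on with
    | C a =>
      intro y
      simp only [← Polynomial.algebraMap_eq, algebraMap_smul, map_smul]
      exact (algebraMap_smul F[X] a (φ y)).symm
    | add f g hf hg => intro y; rw [add_smul, map_add, hf, hg]; exact (add_smul f g (φ y)).symm
    | monomial k a ih =>
      intro y
      rw [pow_succ, ← mul_assoc, mul_smul, ih, hX, ← mul_smul]
  exact ⟨ι, inferInstance, d, hd, ⟨{ φ with map_smul' := hall }⟩⟩

theorem HasDivisors.conj {A A' : Matrix (Fin n) (Fin n) F} {s : Multiset (F[X] × ℕ)}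
    (h : HasDivisors A s) (P : GL (Fin n) F)
    (hP : (P : Matrix (Fin n) (Fin n) F) * A = A' * P) : HasDivisors A' s := by
  obtain ⟨ι, _, d, hd, Ψ, hΨ⟩ := exists_intertwine h
  refine hasDivisors_of_intertwine hd
    ((Matrix.GeneralLinearGroup.toLin P).toLinearEquiv.symm.trans Ψ) fun v => ?_
  have hP' : ((P⁻¹ : GL (Fin n) F) : Matrix (Fin n) (Fin n) F) * A' =
      A * ((P⁻¹ : GL (Fin n) F) : Matrix (Fin n) (Fin n) F) := by
    rw [Units.inv_mul_eq_iff_eq_mul, ← mul_assoc, hP, mul_assoc, Units.mul_inv, mul_one]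
  have hs : ∀ w, (Matrix.GeneralLinearGroup.toLin P).toLinearEquiv.symm w =
      ((P⁻¹ : GL (Fin n) F) : Matrix (Fin n) (Fin n) F) *ᵥ w := fun w => by
    rw [LinearEquiv.symm_apply_eq]
    change w = (P : Matrix (Fin n) (Fin n) F) *ᵥ _
    rw [Matrix.mulVec_mulVec, Units.mul_inv, Matrix.one_mulVec]
  simp only [LinearEquiv.trans_apply, hs, Matrix.mulVec_mulVec, hP']
  rw [← Matrix.mulVec_mulVec, hΨ]

theorem coeff_scale {p : F[X]} {c : F} (hc : c ≠ 0) :
    p.scaleRoots c = C (c ^ p.natDegree) * p.comp (C c⁻¹ * X) := by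
  ext i
  rw [coeff_C_mul, comp_C_mul_X_coeff, coeff_scaleRoots, inv_pow]
  rcases Nat.lt_or_ge p.natDegree i with h | h
  · simp [coeff_eq_zero_of_natDegree_lt h]
  · rw [pow_sub₀ c hc h]; ring

theorem HasDivisors.scale {A : Matrix (Fin n) (Fin n) F} {s : Multiset (F[X] × ℕ)}
    (h : HasDivisors A s) {c : F} (hc : c ≠ 0) :
    HasDivisors (c • A) (s.map fun x => (x.1.scaleRoots c, x.2)) := by
  obtain ⟨ι, _, d, hd, Ψ, hΨ⟩ := exists_intertwine h
  letI : Invertible c⁻¹ := invertibleOfNonzero (inv_ne_zero hc)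
  let τ : F[X] ≃ₐ[F] F[X] := algEquivCMulXAddC c⁻¹ 0
  have hτ : ∀ f : F[X], τ f = f.comp (C c⁻¹ * X) := fun f => by
    simp [τ, Polynomial.comp, aeval_def, Polynomial.algebraMap_eq]
  let d' : ι → F[X] × ℕ := fun i => ((d i).1.scaleRoots c, (d i).2)
  have hI : ∀ i, Ideal.span {(d' i).1 ^ (d' i).2} =
      (Ideal.span {(d i).1 ^ (d i).2}).map (τ : F[X] →+* F[X]) := fun i => by
    rw [Ideal.map_span, Set.image_singleton]
    refine Ideal.span_singleton_eq_span_singleton.2 ?_
    change Associated _ (τ ((d i).1 ^ (d i).2))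
    rw [map_pow, hτ]
    refine Associated.pow_pow ?_
    change Associated ((d i).1.scaleRoots c) _
    rw [coeff_scale hc]
    exact associated_unit_mul_left _ _ (isUnit_C.2 (isUnit_iff_ne_zero.2 (pow_ne_zero _ hc)))
  let E : ((i : ι) → F[X] ⧸ Ideal.span {(d i).1 ^ (d i).2}) ≃ₗ[F]
      ((i : ι) → F[X] ⧸ Ideal.span {(d' i).1 ^ (d' i).2}) :=
    LinearEquiv.piCongrRight fun i => (Ideal.quotientEquivAlg _ _ τ (hI i)).toLinearEquiv
  refine hasDivisors_of_intertwine (d := d') (by rw [← hd, Multiset.map_map]; rfl) (Ψ.trans E)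
    fun v => ?_
  rw [Matrix.smul_mulVec, map_smul, LinearEquiv.trans_apply, hΨ]
  funext i
  obtain ⟨g, hg⟩ := Ideal.Quotient.mk_surjective (Ψ v i)
  simp only [Pi.smul_apply, E, LinearEquiv.piCongrRight_apply, LinearEquiv.trans_apply, ← hg]
  change c • (Ideal.quotientEquivAlg _ _ τ (hI i) (Ideal.Quotient.mk _ (X * g))) =
    (X : F[X]) • (Ideal.quotientEquivAlg _ _ τ (hI i) (Ideal.Quotient.mk _ g))
  rw [Ideal.quotientEquivAlg_mk, Ideal.quotientEquivAlg_mk]
  change Ideal.Quotient.mk _ (c • τ (X * g)) = Ideal.Quotient.mk _ (X * τ g)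
  rw [map_mul, hτ X, X_comp, smul_eq_C_mul, ← mul_assoc, ← mul_assoc, ← C_mul,
    mul_inv_cancel₀ hc, C_1, one_mul]

section counting

variable [Fintype F]

theorem natCard_quot {g : F[X]} (hg : g.Monic) :
    Nat.card (F[X] ⧸ Ideal.span {g}) = Fintype.card F ^ g.natDegree := by
  haveI : Module.Finite F (F[X] ⧸ Ideal.span {g}) := (AdjoinRoot.powerBasis hg.ne_zero).finite
  haveI := Module.finite_of_finite F (M := F[X] ⧸ Ideal.span {g})
  haveI := Fintype.ofFinite (F[X] ⧸ Ideal.span {g})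
  rw [Nat.card_eq_fintype_card, Module.card_eq_pow_finrank (K := F), finrank_quotient_span_eq_natDegree]

theorem natCard_killed {p x : F[X]} (hp : Irreducible p) (hm : p.Monic) (hx : Irreducible x)
    (hxm : x.Monic) (e j : ℕ) [Decidable (x = p)] :
    Nat.card {y : F[X] ⧸ Ideal.span {x ^ e} // p ^ j • y = 0} =
      Fintype.card F ^ (p.natDegree * if x = p then min j e else 0) := by
  split_ifs with hxp
  · subst hxp
    rcases le_total e j with hej | hje
    · have hall : ∀ y : F[X] ⧸ Ideal.span {x ^ e}, x ^ j • y = 0 := fun y => by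
        obtain ⟨g, rfl⟩ := Ideal.Quotient.mk_surjective y
        change Ideal.Quotient.mk _ (x ^ j * g) = 0
        rw [Ideal.Quotient.eq_zero_iff_dvd]
        exact (pow_dvd_pow x hej).mul_right g
      rw [Nat.card_congr (Equiv.subtypeUnivEquiv hall), natCard_quot (hm.pow e), natDegree_pow,
        min_eq_right hej, mul_comm]
    · let g : F[X] →ₗ[F[X]] F[X] ⧸ Ideal.span {x ^ e} :=
        (Submodule.mkQ (Ideal.span {x ^ e})).comp (LinearMap.mulLeft F[X] (x ^ (e - j)))
      have hgv : ∀ f, g f = Ideal.Quotient.mk _ (x ^ (e - j) * f) := fun f => rfl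
      have hker : LinearMap.ker g = Ideal.span {x ^ j} := by
        ext f
        rw [LinearMap.mem_ker, hgv, Ideal.Quotient.eq_zero_iff_dvd, Ideal.mem_span_singleton]
        conv_lhs => rw [show e = e - j + j by omega, pow_add, Nat.sub_add_cancel hje]
        exact mul_dvd_mul_iff_left (pow_ne_zero _ hm.ne_zero)
      have hrange : ∀ y, y ∈ LinearMap.range g ↔ x ^ j • y = 0 := fun y => by
        obtain ⟨h, rfl⟩ := Ideal.Quotient.mk_surjective y
        constructor
        · rintro ⟨f, hf⟩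
          rw [← hf, hgv]
          change Ideal.Quotient.mk _ (x ^ j * (x ^ (e - j) * f)) = 0
          rw [Ideal.Quotient.eq_zero_iff_dvd, ← mul_assoc, ← pow_add, Nat.add_sub_cancel' hje]
          exact dvd_mul_right _ _
        · intro hy
          change Ideal.Quotient.mk _ (x ^ j * h) = 0 at hy
          rw [Ideal.Quotient.eq_zero_iff_dvd] at hy
          have hdvd : x ^ (e - j) ∣ h := by
            rwa [show x ^ e = x ^ j * x ^ (e - j) by rw [← pow_add, Nat.add_sub_cancel' hje],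
              mul_dvd_mul_iff_left (pow_ne_zero _ hm.ne_zero)] at hy
          obtain ⟨f, rfl⟩ := hdvd
          exact ⟨f, rfl⟩
      rw [← Nat.card_congr (Equiv.subtypeEquivRight hrange),
        ← Nat.card_congr g.quotKerEquivRange.toEquiv,
        Nat.card_congr (Submodule.quotEquivOfEq _ _ hker).toEquiv, natCard_quot (hm.pow j),
        natDegree_pow, min_eq_left hje, mul_comm]
  · rw [mul_zero, pow_zero]
    have hndvd : ¬ p ∣ x := fun h =>
      hxp (eq_of_monic_of_associated hm hxm (hp.associated_of_dvd hx h)).symm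
    obtain ⟨a, b, hab⟩ : IsCoprime (p ^ j) (x ^ e) :=
      ((hp.coprime_iff_not_dvd).2 hndvd).pow
    haveI : Subsingleton {y : F[X] ⧸ Ideal.span {x ^ e} // p ^ j • y = 0} := by
      have hzero : ∀ y : F[X] ⧸ Ideal.span {x ^ e}, p ^ j • y = 0 → y = 0 := fun y hy => by
        have h1 : (1 : F[X]) • y = 0 := by
          rw [← hab, add_smul, mul_smul, hy, smul_zero, zero_add]
          obtain ⟨g, rfl⟩ := Ideal.Quotient.mk_surjective y
          change Ideal.Quotient.mk _ (b * x ^ e * g) = 0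
          rw [Ideal.Quotient.eq_zero_iff_dvd]
          exact (dvd_mul_left _ b).mul_right g
        rwa [one_smul] at h1
      exact ⟨fun y z => Subtype.ext ((hzero _ y.2).trans (hzero _ z.2).symm)⟩
    exact Nat.card_eq_one_iff_unique.2 ⟨inferInstance, ⟨⟨0, smul_zero _⟩⟩⟩

end counting

/-- `∑ min(j, e)` over the divisors attached to `p` -/
noncomputable def levelSum (p : F[X]) (s : Multiset (F[X] × ℕ)) (j : ℕ) : ℕ :=
  letI := Classical.decEq F[X]
  (s.map fun x => if x.1 = p then min j x.2 else 0).sum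

theorem levelSum_count [DecidableEq F[X]] (p : F[X]) (j : ℕ) : ∀ s : Multiset (F[X] × ℕ),
    2 * levelSum p s (j + 1) = levelSum p s j + levelSum p s (j + 2) + s.count (p, j + 1) := by
  obtain rfl : ‹DecidableEq F[X]› = Classical.decEq F[X] := Subsingleton.elim _ _
  letI := Classical.decEq F[X]
  intro s
  induction s using Multiset.induction with
  | empty => simp [levelSum]
  | cons x s ih =>
    simp only [levelSum, Multiset.map_cons, Multiset.sum_cons, Multiset.count_cons] at ih ⊢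
    by_cases hx : x.1 = p
    · simp only [hx, if_true]
      by_cases he : x.2 = j + 1
      · rw [if_pos (Prod.ext hx.symm he.symm)]; omega
      · rw [if_neg fun h => he (congrArg Prod.snd h).symm]; omega
    · rw [if_neg hx, if_neg hx, if_neg hx, if_neg fun h => hx (congrArg Prod.fst h).symm]
      omega

/-- A multiset of elementary divisors in normal form -/
def GoodDivisors (s : Multiset (F[X] × ℕ)) : Prop :=
  ∀ x ∈ s, x.1.Monic ∧ Irreducible x.1 ∧ x.1.coeff 0 ≠ 0 ∧ 1 ≤ x.2

theorem GoodDivisors.scale {s : Multiset (F[X] × ℕ)} (hs : GoodDivisors s) {c : F} (hc : c ≠ 0) :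
    GoodDivisors (s.map fun x => (x.1.scaleRoots c, x.2)) := by
  intro y hy
  obtain ⟨x, hx, rfl⟩ := Multiset.mem_map.1 hy
  obtain ⟨hm, hirr, h0, he⟩ := hs x hx
  refine ⟨(monic_scaleRoots_iff c).2 hm, ?_, ?_, he⟩
  · letI : Invertible c⁻¹ := invertibleOfNonzero (inv_ne_zero hc)
    have h1 : Irreducible (x.1.comp (C c⁻¹ * X)) := by
      have : Irreducible ((algEquivCMulXAddC c⁻¹ (0 : F)) x.1) :=
        (MulEquiv.irreducible_iff (algEquivCMulXAddC c⁻¹ (0 : F))).2 hirr
      simpa [Polynomial.comp, aeval_def, Polynomial.algebraMap_eq] using this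
    change Irreducible (x.1.scaleRoots c)
    rw [coeff_scale hc]
    exact (associated_unit_mul_left _ _
      (isUnit_C.2 (isUnit_iff_ne_zero.2 (pow_ne_zero _ hc)))).symm.irreducible h1
  · simp [coeff_scaleRoots, h0, hc]

/-- The elementary divisors are unique. -/
theorem hasDivisors_unique [Fintype F] {A : Matrix (Fin n) (Fin n) F}
    {s s' : Multiset (F[X] × ℕ)} (hs : GoodDivisors s) (hs' : GoodDivisors s')
    (h : HasDivisors A s) (h' : HasDivisors A s') : s = s' := by
  classical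
  obtain ⟨ι, _, d, hd, ⟨Φ⟩⟩ := h
  obtain ⟨ι', _, d', hd', ⟨Φ'⟩⟩ := h'
  have hmem : ∀ i, (d i) ∈ s := fun i => hd ▸ Multiset.mem_map_of_mem d (Finset.mem_univ_val i)
  have hmem' : ∀ i, (d' i) ∈ s' := fun i => hd' ▸ Multiset.mem_map_of_mem d' (Finset.mem_univ_val i)
  have hkey : ∀ {κ : Type u} [Fintype κ] (e : κ → F[X] × ℕ), (∀ i, (e i).1.Monic ∧ Irreducible (e i).1) →
      ∀ p : F[X], p.Monic → Irreducible p → ∀ j : ℕ,
      Nat.card {y : (i : κ) → F[X] ⧸ Ideal.span {(e i).1 ^ (e i).2} // p ^ j • y = 0} =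
        Fintype.card F ^ (p.natDegree * levelSum p (Finset.univ.val.map e) j) := by
    intro κ _ e he p hm hp j
    rw [Nat.card_congr ((Equiv.subtypeEquivRight fun (y : (i : κ) → F[X] ⧸ Ideal.span {(e i).1 ^ (e i).2}) => (show p ^ j • y = 0 ↔ ∀ i, p ^ j • y i = 0 from funext_iff)).trans
      (Equiv.subtypePiEquivPi (p := fun i (z : F[X] ⧸ Ideal.span {(e i).1 ^ (e i).2}) =>
        p ^ j • z = 0))), Nat.card_pi]
    rw [Finset.prod_congr rfl fun i _ => natCard_killed hp hm (he i).2 (he i).1 (e i).2 j,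
      Finset.prod_pow_eq_pow_sum, ← Finset.mul_sum, levelSum, Multiset.map_map]
    congr 2
    exact Finset.sum_congr rfl fun i _ => by simp only [Function.comp_apply]; split_ifs <;> rfl
  have hlev : ∀ p : F[X], p.Monic → Irreducible p → ∀ j, levelSum p s j = levelSum p s' j := by
    intro p hm hp j
    have h1 := hkey d (fun i => ⟨(hs _ (hmem i)).1, (hs _ (hmem i)).2.1⟩) p hm hp j
    have h2 := hkey d' (fun i => ⟨(hs' _ (hmem' i)).1, (hs' _ (hmem' i)).2.1⟩) p hm hp j
    have hcard := Nat.card_congr ((Φ.symm.trans Φ').toEquiv.subtypeEquiv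
      (p := fun y => p ^ j • y = 0) (q := fun y => p ^ j • y = 0) fun y => by
        change p ^ j • y = 0 ↔ p ^ j • (Φ.symm.trans Φ') y = 0
        rw [← map_smul, LinearEquiv.map_eq_zero_iff])
    rw [h1, h2, hd, hd'] at hcard
    exact Nat.eq_of_mul_eq_mul_left hp.natDegree_pos
      (Nat.pow_right_injective Fintype.one_lt_card hcard)
  refine Multiset.ext.2 fun x => ?_
  by_cases hx : x.1.Monic ∧ Irreducible x.1 ∧ 1 ≤ x.2
  · obtain ⟨hm, hp, he⟩ := hx
    obtain ⟨j, hj⟩ : ∃ j, x.2 = j + 1 := ⟨x.2 - 1, by omega⟩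
    have := levelSum_count x.1 j s
    have := levelSum_count x.1 j s'
    have := hlev x.1 hm hp j
    have := hlev x.1 hm hp (j + 1)
    have := hlev x.1 hm hp (j + 2)
    rw [show x = (x.1, j + 1) from Prod.ext rfl hj]
    omega
  · rw [Multiset.count_eq_zero.2 fun hm => hx ⟨(hs x hm).1, (hs x hm).2.1, (hs x hm).2.2.2⟩,
      Multiset.count_eq_zero.2 fun hm => hx ⟨(hs' x hm).1, (hs' x hm).2.1, (hs' x hm).2.2.2⟩]

section det

variable {R : Type*} [CommRing R] {κ : Type*} {M : κ → Type*}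
  [∀ i, AddCommGroup (M i)] [∀ i, Module R (M i)]

/-- splitting off one factor of a product of modules -/
def piSplitLinear [DecidableEq κ] (k : κ) :
    ((i : κ) → M i) ≃ₗ[R] M k × ((i : {i // i ≠ k}) → M i) :=
  { Equiv.piSplitAt k M with
    map_add' := fun _ _ => rfl
    map_smul' := fun _ _ => rfl }

theorem det_update_single [DecidableEq κ] [Fintype κ] [∀ i, Module.Free R (M i)]
    [∀ i, Module.Finite R (M i)] (k : κ) (f : M k →ₗ[R] M k) (G : ((i : κ) → M i) →ₗ[R] ((i : κ) → M i))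
    (hk : ∀ y, G y k = f (y k)) (hne : ∀ y i, i ≠ k → G y i = y i) :
    LinearMap.det G = LinearMap.det f := by
  rw [← LinearMap.det_conj G (piSplitLinear k)]
  have heq : (piSplitLinear k : ((i : κ) → M i) ≃ₗ[R] _).toLinearMap ∘ₗ G ∘ₗ
      (piSplitLinear k : ((i : κ) → M i) ≃ₗ[R] _).symm.toLinearMap =
      LinearMap.prodMap f LinearMap.id := by
    refine LinearMap.ext fun z => Prod.ext ?_ (funext fun i => ?_)
    · change G _ k = f z.1
      rw [hk]
      have := congrArg Prod.fst ((piSplitLinear (R := R) (M := M) k).apply_symm_apply z)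
      exact congrArg f this
    · change G _ i.1 = z.2 i
      rw [hne _ _ i.2]
      exact congrFun (congrArg Prod.snd ((piSplitLinear (R := R) (M := M) k).apply_symm_apply z)) i
  rw [heq, LinearMap.det_prodMap, LinearMap.det_id, mul_one]

theorem det_componentwise [Fintype κ] [∀ i, Module.Free R (M i)] [∀ i, Module.Finite R (M i)]
    (f : ∀ i, M i →ₗ[R] M i) (G : ((i : κ) → M i) →ₗ[R] ((i : κ) → M i))
    (hG : ∀ y i, G y i = f i (y i)) : LinearMap.det G = ∏ i, LinearMap.det (f i) := by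
  classical
  have key : ∀ (T : Finset κ) (G : ((i : κ) → M i) →ₗ[R] ((i : κ) → M i)),
      (∀ y i, G y i = if i ∈ T then f i (y i) else y i) →
      LinearMap.det G = ∏ i ∈ T, LinearMap.det (f i) := by
    intro T
    induction T using Finset.induction with
    | empty =>
      intro G hG
      rw [show G = LinearMap.id from LinearMap.ext fun y => funext fun i => by simpa using hG y i,
        LinearMap.det_id, Finset.prod_empty]
    | insert k T hkT ih =>
      intro G hG
      let G₁ : ((i : κ) → M i) →ₗ[R] ((i : κ) → M i) :=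
        LinearMap.pi fun i => (if i ∈ T then f i else LinearMap.id).comp (LinearMap.proj i)
      let G₂ : ((i : κ) → M i) →ₗ[R] ((i : κ) → M i) :=
        LinearMap.pi fun i => (if i = k then f i else LinearMap.id).comp (LinearMap.proj i)
      have hsplit : G = G₂ ∘ₗ G₁ := by
        refine LinearMap.ext fun y => funext fun i => ?_
        rw [hG]
        by_cases hik : i = k
        · subst hik; simp [G₁, G₂, hkT]
        · by_cases hiT : i ∈ T <;> simp [G₁, G₂, hik, hiT]
      rw [hsplit, LinearMap.det_comp, Finset.prod_insert hkT,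
        ih G₁ fun y i => by by_cases hiT : i ∈ T <;> simp [G₁, hiT],
        det_update_single k (f k) G₂ (fun y => by simp [G₂]) fun y i hi => by simp [G₂, hi]]
  exact key Finset.univ G fun y i => by simpa using hG y i

end det

theorem HasDivisors.det_eq {A : Matrix (Fin n) (Fin n) F} {s : Multiset (F[X] × ℕ)}
    (hs : GoodDivisors s) (h : HasDivisors A s) :
    A.det = (s.map fun x => polyDet x.1 ^ x.2).prod := by
  obtain ⟨ι, _, d, hd, Ψ, hΨ⟩ := exists_intertwine h
  have hmon : ∀ i, ((d i).1 ^ (d i).2).Monic := fun i =>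
    (hs _ (hd ▸ Multiset.mem_map_of_mem d (Finset.mem_univ_val i))).1.pow _
  haveI : ∀ i, Module.Finite F (F[X] ⧸ Ideal.span {(d i).1 ^ (d i).2}) := fun i =>
    (AdjoinRoot.powerBasis (hmon i).ne_zero).finite
  let G : ((i : ι) → F[X] ⧸ Ideal.span {(d i).1 ^ (d i).2}) →ₗ[F]
      ((i : ι) → F[X] ⧸ Ideal.span {(d i).1 ^ (d i).2}) :=
    LinearMap.pi fun i => (Algebra.lmul F (F[X] ⧸ Ideal.span {(d i).1 ^ (d i).2})
      (Ideal.Quotient.mk _ X)).comp (LinearMap.proj i)
  have hG : G = Ψ.toLinearMap ∘ₗ Matrix.toLin' A ∘ₗ Ψ.symm.toLinearMap := by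
    refine LinearMap.ext fun y => ?_
    simp only [LinearMap.comp_apply, LinearEquiv.coe_coe, Matrix.toLin'_apply, hΨ,
      LinearEquiv.apply_symm_apply]
    funext i
    obtain ⟨g, hg⟩ := Ideal.Quotient.mk_surjective (y i)
    simp only [G, LinearMap.pi_apply, LinearMap.comp_apply, LinearMap.proj_apply, Pi.smul_apply, ← hg]
    rfl
  rw [← LinearMap.det_toLin', ← LinearMap.det_conj (Matrix.toLin' A) Ψ, ← hG,
    det_componentwise (fun i => Algebra.lmul F (F[X] ⧸ Ideal.span {(d i).1 ^ (d i).2})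
      (Ideal.Quotient.mk _ X)) G (fun y i => rfl), ← hd, Multiset.map_map]
  refine Finset.prod_congr rfl fun i _ => ?_
  change Algebra.norm F (AdjoinRoot.root ((d i).1 ^ (d i).2)) = polyDet (d i).1 ^ (d i).2
  rw [← polyDet_pow (hs _ (hd ▸ Multiset.mem_map_of_mem d (Finset.mem_univ_val i))).1,
    ← AdjoinRoot.powerBasis_gen (hmon i).ne_zero, Algebra.PowerBasis.norm_gen_eq_coeff_zero_minpoly,
    AdjoinRoot.minpoly_powerBasis_gen_of_monic (hmon i)]
  rfl

theorem exists_norm_eq [Fintype F] {p : F[X]} (hm : p.Monic) (hp : Irreducible p) (e : ℕ) (a : F) :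
    ∃ r : AdjoinRoot (p ^ e), Algebra.norm F r = a ^ e := by
  haveI := Fact.mk hp
  haveI : Module.Finite F (AdjoinRoot p) := (AdjoinRoot.powerBasis hm.ne_zero).finite
  haveI : Module.Finite F (AdjoinRoot (p ^ e)) := (AdjoinRoot.powerBasis (hm.pow e).ne_zero).finite
  haveI := Module.finite_of_finite F (M := AdjoinRoot p)
  obtain ⟨z, hz⟩ := FiniteField.norm_surjective F (AdjoinRoot p) a
  -- lift of the residue field
  have hexp : ∀ (k : ℕ) (f : F[X]), expand F (Fintype.card F ^ k) f = f ^ (Fintype.card F ^ k) := by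
    intro k
    induction k with
    | zero => simp
    | succ k ih =>
      intro f
      rw [pow_succ, ← expand_expand, FiniteField.expand_card, map_pow, ih, ← pow_mul, mul_comm]
  have hroot : aeval (AdjoinRoot.root (p ^ e) ^ (Fintype.card F ^ e)) p = 0 := by
    rw [← expand_aeval, hexp, AdjoinRoot.aeval_eq, AdjoinRoot.mk_eq_zero]
    exact pow_dvd_pow p (Nat.lt_pow_self Fintype.one_lt_card).le
  let φ : AdjoinRoot p →ₐ[F] AdjoinRoot (p ^ e) :=
    AdjoinRoot.liftAlgHom p (Algebra.ofId F _) _ hroot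
  letI := φ.toRingHom.toAlgebra
  haveI : IsScalarTower F (AdjoinRoot p) (AdjoinRoot (p ^ e)) :=
    IsScalarTower.of_algebraMap_eq' φ.comp_algebraMap.symm
  refine ⟨algebraMap (AdjoinRoot p) (AdjoinRoot (p ^ e)) z, ?_⟩
  rw [← Algebra.norm_norm (S := AdjoinRoot p), Algebra.norm_algebraMap, map_pow, hz]
  congr 1
  have h1 := Module.finrank_mul_finrank F (AdjoinRoot p) (AdjoinRoot (p ^ e))
  rw [(AdjoinRoot.powerBasis hm.ne_zero).finrank, (AdjoinRoot.powerBasis (hm.pow e).ne_zero).finrank,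
    AdjoinRoot.powerBasis_dim, AdjoinRoot.powerBasis_dim, natDegree_pow, mul_comm e] at h1
  exact Nat.eq_of_mul_eq_mul_left hp.natDegree_pos h1

theorem HasDivisors.exists_commute_det [Fintype F] {A : Matrix (Fin n) (Fin n) F}
    {s : Multiset (F[X] × ℕ)} (hs : GoodDivisors s) (h : HasDivisors A s) {x : F[X] × ℕ} (hx : x ∈ s)
    (a : F) : ∃ Q : Matrix (Fin n) (Fin n) F, Q * A = A * Q ∧ Q.det = a ^ x.2 := by
  classical
  obtain ⟨ι, _, d, hd, Ψ, hΨ⟩ := exists_intertwine h
  have hmem : ∀ i, d i ∈ s := fun i => hd ▸ Multiset.mem_map_of_mem d (Finset.mem_univ_val i)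
  haveI : ∀ i, Module.Finite F (F[X] ⧸ Ideal.span {(d i).1 ^ (d i).2}) := fun i =>
    (AdjoinRoot.powerBasis ((hs _ (hmem i)).1.pow _).ne_zero).finite
  obtain ⟨k, -, hk⟩ := Multiset.mem_map.1 (hd.symm ▸ hx)
  obtain ⟨r, hr⟩ := exists_norm_eq (hs _ (hmem k)).1 (hs _ (hmem k)).2.1 (d k).2 a
  let r' : F[X] ⧸ Ideal.span {(d k).1 ^ (d k).2} := r
  let rr : (i : ι) → F[X] ⧸ Ideal.span {(d i).1 ^ (d i).2} := Pi.mulSingle k r'
  let G : ((i : ι) → F[X] ⧸ Ideal.span {(d i).1 ^ (d i).2}) →ₗ[F]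
      ((i : ι) → F[X] ⧸ Ideal.span {(d i).1 ^ (d i).2}) :=
    LinearMap.pi fun i => (Algebra.lmul F (F[X] ⧸ Ideal.span {(d i).1 ^ (d i).2})
      (rr i)).comp (LinearMap.proj i)
  have hGX : ∀ y, G ((X : F[X]) • y) = (X : F[X]) • G y := fun y => funext fun i => by
    change rr i * ((X : F[X]) • y i) = (X : F[X]) • (rr i * y i)
    exact mul_smul_comm _ _ _
  let T := Ψ.symm.toLinearMap ∘ₗ G ∘ₗ Ψ.toLinearMap
  refine ⟨LinearMap.toMatrix' T, ?_, ?_⟩
  · apply Matrix.toLin'.injective
    rw [Matrix.toLin'_mul, Matrix.toLin'_mul, Matrix.toLin'_toMatrix']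
    refine LinearMap.ext fun v => Ψ.injective ?_
    simp only [T, LinearMap.comp_apply, Matrix.toLin'_apply, LinearEquiv.coe_coe,
      LinearEquiv.apply_symm_apply, hΨ, hGX]
  · rw [LinearMap.det_toMatrix', show LinearMap.det T = LinearMap.det G from
      LinearMap.det_conj G Ψ.symm,
      det_componentwise (fun i => Algebra.lmul F (F[X] ⧸ Ideal.span {(d i).1 ^ (d i).2})
        (rr i)) G (fun y i => rfl), Finset.prod_eq_single k]
    · change Algebra.norm F (rr k) = a ^ x.2
      rw [← hk, ← hr, show rr k = r' by simp [rr]]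
      rfl
    · intro i _ hik
      change LinearMap.det (Algebra.lmul F (F[X] ⧸ Ideal.span {(d i).1 ^ (d i).2}) (rr i)) = 1
      rw [show rr i = 1 by simp [rr, hik], map_one, map_one]
    · simp

end CfsgLib.SpecGL
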