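import Mathlib
import Cfsg.Agent.Lib.SpecGL.DivisorTools

/-!
Class numbers of `SL_n(q)`, also for the classes fixed by a central element.
-/

set_option autoImplicit false

namespace CfsgLib.SpecGL

open Polynomial Matrix

universe u

variable {F : Type u} [Field F] {n : ℕ}

/-- product of the divisors with exponent `i+1` -/
noncomputable def exponentPoly (s : Multiset (F[X] × ℕ)) (i : Fin n) : F[X] :=
  ((s.filter fun x => x.2 = (i : ℕ) + 1).map Prod.fst).prod

@[to_additive sum_by_exponent]
theorem prod_by_exponent {α M : Type*} [CommMonoid M] (f : α × ℕ → M) :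
    ∀ t : Multiset (α × ℕ), (∀ x ∈ t, 1 ≤ x.2 ∧ x.2 ≤ n) →
      ∏ i : Fin n, ((t.filter fun x => x.2 = (i : ℕ) + 1).map f).prod = (t.map f).prod := by
  intro t
  induction t using Multiset.induction with
  | empty => simp
  | cons x t ih =>
    intro ht
    obtain ⟨hx1, hx2⟩ := ht x (Multiset.mem_cons_self x t)
    rw [Multiset.map_cons, Multiset.prod_cons, ← ih fun y hy => ht y (Multiset.mem_cons_of_mem hy),
      ← Finset.prod_ite_eq' Finset.univ (⟨x.2 - 1, by omega⟩ : Fin n) (fun _ => f x) |>.trans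
        (if_pos (Finset.mem_univ _)), ← Finset.prod_mul_distrib]
    refine Finset.prod_congr rfl fun i _ => ?_
    rw [Multiset.filter_cons]
    by_cases hi : x.2 = (i : ℕ) + 1
    · rw [if_pos hi, if_pos (Fin.ext (show (i : ℕ) = x.2 - 1 by omega))]
      simp
    · rw [if_neg hi, if_neg fun h => hi (by rw [h]; change x.2 = x.2 - 1 + 1; omega)]
      simp

theorem GoodDivisors.bounds {s : Multiset (F[X] × ℕ)} (hs : GoodDivisors s)
    (hsum : (s.map fun x => x.2 * x.1.natDegree).sum = n) :
    ∀ x ∈ s, 1 ≤ x.2 ∧ x.2 ≤ n := fun x hx => by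
  refine ⟨(hs x hx).2.2.2, le_trans (Nat.le_mul_of_pos_right _ (hs x hx).2.1.natDegree_pos) ?_⟩
  rw [← hsum]
  exact Multiset.single_le_sum (fun _ _ => Nat.zero_le _) _
    (Multiset.mem_map_of_mem (fun x : F[X] × ℕ => x.2 * x.1.natDegree) hx)

theorem GoodDivisors.monic_exponentPoly {s : Multiset (F[X] × ℕ)} (hs : GoodDivisors s) (i : Fin n) :
    (exponentPoly s i).Monic :=
  monic_multiset_prod_of_monic _ _ fun x hx => (hs x (Multiset.mem_of_mem_filter hx)).1

theorem GoodDivisors.coeff_zero_exponentPoly {s : Multiset (F[X] × ℕ)} (hs : GoodDivisors s) (i : Fin n) :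
    (exponentPoly s i).coeff 0 ≠ 0 := by
  rw [exponentPoly, coeff_zero_multiset_prod, Multiset.map_map]
  refine Multiset.prod_ne_zero fun h => ?_
  obtain ⟨x, hx, hx0⟩ := Multiset.mem_map.1 h
  exact (hs x (Multiset.mem_of_mem_filter hx)).2.2.1 hx0

theorem GoodDivisors.weight_exponentPoly {s : Multiset (F[X] × ℕ)} (hs : GoodDivisors s)
    (hsum : (s.map fun x => x.2 * x.1.natDegree).sum = n) :
    ∑ i : Fin n, ((i : ℕ) + 1) * (exponentPoly s i).natDegree = n := by
  conv_rhs => rw [← hsum, ← sum_by_exponent (n := n) _ s (hs.bounds hsum)]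
  refine Finset.sum_congr rfl fun i _ => ?_
  rw [exponentPoly, natDegree_multiset_prod_of_monic _ (fun p hp => by
      obtain ⟨x, hx, rfl⟩ := Multiset.mem_map.1 hp
      exact (hs x (Multiset.mem_of_mem_filter hx)).1), Multiset.map_map, ← Multiset.sum_map_mul_left]
  refine congrArg Multiset.sum (Multiset.map_congr rfl fun x hx => ?_)
  rw [Function.comp_apply, (Multiset.mem_filter.1 hx).2]

theorem GoodDivisors.det_exponentPoly {s : Multiset (F[X] × ℕ)} (hs : GoodDivisors s)
    (hsum : (s.map fun x => x.2 * x.1.natDegree).sum = n) :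
    tupleDet (fun i : Fin n => exponentPoly s i) = (s.map fun x => polyDet x.1 ^ x.2).prod := by
  rw [← prod_by_exponent (n := n) _ s (hs.bounds hsum), tupleDet]
  refine Finset.prod_congr rfl fun i _ => ?_
  rw [exponentPoly, polyDet_multiset_prod (fun p hp => by
      obtain ⟨x, hx, rfl⟩ := Multiset.mem_map.1 hp
      exact (hs x (Multiset.mem_of_mem_filter hx)).1), Multiset.map_map, ← Multiset.prod_map_pow]
  refine congrArg Multiset.prod (Multiset.map_congr rfl fun x hx => ?_)
  rw [Function.comp_apply, (Multiset.mem_filter.1 hx).2]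

theorem GoodDivisors.eq_of_exponentPoly_eq {s s' : Multiset (F[X] × ℕ)} (hs : GoodDivisors s)
    (hs' : GoodDivisors s') (hb : ∀ x ∈ s, x.2 ≤ n) (hb' : ∀ x ∈ s', x.2 ≤ n)
    (h : ∀ i : Fin n, exponentPoly s i = exponentPoly s' i) : s = s' := by
  classical
  have hfac : ∀ (t : Multiset (F[X] × ℕ)), GoodDivisors t → ∀ i : Fin n,
      UniqueFactorizationMonoid.normalizedFactors (exponentPoly t i) =
        (t.filter fun x => x.2 = (i : ℕ) + 1).map Prod.fst := fun t ht i => by
    rw [exponentPoly, UniqueFactorizationMonoid.normalizedFactors_prod_eq]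
    · refine Multiset.map_id' _ |> fun e => Eq.trans (Multiset.map_congr rfl fun p hp => ?_) e
      obtain ⟨x, hx, rfl⟩ := Multiset.mem_map.1 hp
      exact (ht x (Multiset.mem_of_mem_filter hx)).1.normalize_eq_self
    · intro p hp
      obtain ⟨x, hx, rfl⟩ := Multiset.mem_map.1 hp
      exact (ht x (Multiset.mem_of_mem_filter hx)).2.1
  have hcount : ∀ (t : Multiset (F[X] × ℕ)), GoodDivisors t → ∀ (x : F[X] × ℕ) (i : Fin n),
      x.2 = (i : ℕ) + 1 →
      t.count x = (UniqueFactorizationMonoid.normalizedFactors (exponentPoly t i)).count x.1 := by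
    intro t ht x i hi
    rw [hfac t ht, Multiset.count_map, Multiset.filter_filter, Multiset.count_eq_card_filter_eq]
    refine congrArg Multiset.card (Multiset.filter_congr fun y _ => ?_)
    exact ⟨fun h => ⟨by rw [h], by rw [← h]; exact hi⟩, fun h => Prod.ext h.1 (by rw [h.2]; exact hi)⟩
  refine Multiset.ext.2 fun x => ?_
  by_cases hx : 1 ≤ x.2 ∧ x.2 ≤ n
  · have hi : x.2 = ((⟨x.2 - 1, by omega⟩ : Fin n) : ℕ) + 1 := by
      change x.2 = x.2 - 1 + 1; omega
    rw [hcount s hs x _ hi, hcount s' hs' x _ hi, h]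
  · rw [Multiset.count_eq_zero.2 fun hm => hx ⟨(hs x hm).2.2.2, hb x hm⟩,
      Multiset.count_eq_zero.2 fun hm => hx ⟨(hs' x hm).2.2.2, hb' x hm⟩]

theorem scaleRoots_multiset_prod {c : F} : ∀ t : Multiset F[X],
    t.prod.scaleRoots c = (t.map fun p => p.scaleRoots c).prod := by
  intro t
  induction t using Multiset.induction with
  | empty => simp [one_scaleRoots]
  | cons a t ih => rw [Multiset.prod_cons, mul_scaleRoots_of_noZeroDivisors, ih, Multiset.map_cons,
      Multiset.prod_cons]

theorem exponentPoly_scale {s : Multiset (F[X] × ℕ)} {c : F}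
    (h : s.map (fun x => (x.1.scaleRoots c, x.2)) = s) (i : Fin n) :
    (exponentPoly s i).scaleRoots c = exponentPoly s i := by
  rw [exponentPoly, scaleRoots_multiset_prod]
  conv_rhs => rw [← h, Multiset.filter_map, Multiset.map_map]
  rw [Multiset.map_map]
  rfl

/-- A polynomial invariant under a scaling of order `o` is an expansion. -/
theorem expand_contract_of_scale {g : F[X]} (h0 : g.coeff 0 ≠ 0) {c : F} {o : ℕ} (ho : o ≠ 0)
    (hord : ∀ k : ℕ, c ^ k = 1 → o ∣ k) (h : g.scaleRoots c = g) :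
    expand F o (contract o g) = g := by
  have hdiv : ∀ i, g.coeff i ≠ 0 → o ∣ g.natDegree - i := fun i hi => by
    refine hord _ (mul_left_cancel₀ hi ?_)
    rw [← coeff_scaleRoots, h, mul_one]
  have hD : o ∣ g.natDegree := by simpa using hdiv 0 h0
  ext i
  rw [coeff_expand (Nat.pos_of_ne_zero ho), coeff_contract ho]
  split_ifs with hi
  · rw [Nat.div_mul_cancel hi]
  · by_contra hne
    refine hi ((Nat.dvd_add_right (hdiv i (Ne.symm hne))).1 ?_)
    rwa [Nat.sub_add_cancel (le_natDegree_of_ne_zero (Ne.symm hne))]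

variable [Fintype F]

open scoped MatrixGroups

/-- The classes of `SL` inside one class of `GL`. -/
theorem card_classes_in_gl_class {A : SpecialLinearGroup (Fin n) F} {s : Multiset (F[X] × ℕ)}
    (hs : GoodDivisors s) (h : HasDivisors (A : Matrix (Fin n) (Fin n) F) s) {x : F[X] × ℕ}
    (hx : x ∈ s) :
    Nat.card {c : ConjClasses (SpecialLinearGroup (Fin n) F) //
      IsConj (SpecialLinearGroup.toGL c.out) (SpecialLinearGroup.toGL A)} ≤
        gcdWeight (Fintype.card F) x.2 := by
  classical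
  let H : Subgroup Fˣ :=
    (Subgroup.centralizer {SpecialLinearGroup.toGL A}).map Matrix.GeneralLinearGroup.det
  have hH : (powMonoidHom x.2 : Fˣ →* Fˣ).range ≤ H := by
    rintro _ ⟨a, rfl⟩
    obtain ⟨Q, hQA, hQ⟩ := h.exists_commute_det hs hx (a : F)
    have hne : Q.det ≠ 0 := by rw [hQ]; exact pow_ne_zero _ a.ne_zero
    refine ⟨Matrix.GeneralLinearGroup.mkOfDetNeZero Q hne, ?_, Units.ext ?_⟩
    · rw [SetLike.mem_coe, Subgroup.mem_centralizer_singleton_iff]
      exact Units.ext hQA
    · simpa using hQ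
  have hidx : H.index ≤ gcdWeight (Fintype.card F) x.2 := by
    refine (Nat.le_of_dvd (Nat.pos_of_ne_zero Subgroup.FiniteIndex.index_ne_zero)
      (Subgroup.index_dvd_of_le hH)).trans (le_of_eq ?_)
    rw [IsCyclic.index_powMonoidHom_range, Nat.card_units, Nat.card_eq_fintype_card, Nat.gcd_comm]
    rfl
  choose P hP using fun c : {c : ConjClasses (SpecialLinearGroup (Fin n) F) //
      IsConj (SpecialLinearGroup.toGL c.out) (SpecialLinearGroup.toGL A)} => isConj_iff.1 c.2
  refine le_trans ?_ hidx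
  refine Nat.card_le_card_of_injective
    (fun c => (QuotientGroup.mk (Matrix.GeneralLinearGroup.det (P c)) : Fˣ ⧸ H)) fun c c' hcc => ?_
  obtain ⟨Q, hQ, hQd⟩ := Subgroup.mem_map.1 (QuotientGroup.eq.1 hcc)
  rw [Subgroup.mem_centralizer_singleton_iff] at hQ
  let R : GL (Fin n) F := (P c')⁻¹ * Q * P c
  have hR : Matrix.GeneralLinearGroup.det R = 1 := by
    rw [map_mul, map_mul, map_inv, hQd, ← mul_assoc, mul_right_comm _ (Matrix.GeneralLinearGroup.det (P c'))]
    group
  have hRc : R * SpecialLinearGroup.toGL c.1.out * R⁻¹ = SpecialLinearGroup.toGL c'.1.out := by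
    have e1 : P c * SpecialLinearGroup.toGL c.1.out = SpecialLinearGroup.toGL A * P c :=
      mul_inv_eq_iff_eq_mul.1 (hP c)
    have e2 : (P c')⁻¹ * SpecialLinearGroup.toGL A =
        SpecialLinearGroup.toGL c'.1.out * (P c')⁻¹ :=
      (congrArg (fun z => (P c')⁻¹ * z) (hP c').symm).trans (by group)
    rw [mul_inv_eq_iff_eq_mul]
    simp only [R, mul_assoc]
    rw [e1, ← mul_assoc Q, hQ, mul_assoc, ← mul_assoc (P c')⁻¹, e2]
    simp only [mul_assoc]
  let R' : SpecialLinearGroup (Fin n) F :=
    ⟨(R : Matrix (Fin n) (Fin n) F), by simpa using congrArg Units.val hR⟩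
  have hR' : R = SpecialLinearGroup.toGL R' := Units.ext rfl
  refine Subtype.ext ?_
  rw [← c.1.out_eq, ← c'.1.out_eq]
  refine Quotient.sound (isConj_iff.2 ⟨R', SpecialLinearGroup.toGL_injective ?_⟩)
  rw [map_mul, map_mul, map_inv, ← hR', hRc]

/-- The main counting bound. -/
theorem card_gl_fixed_le {ζ : F} (hζ : ζ ≠ 0) {o m : ℕ} (hom : n = o * m) (hm : 1 ≤ m)
    (hord : ∀ k : ℕ, ζ ^ k = 1 → o ∣ k) :
    (Fintype.card F - 1) * Nat.card {c : ConjClasses (SpecialLinearGroup (Fin n) F) //
      ∃ P : GL (Fin n) F, (P : Matrix (Fin n) (Fin n) F) * (c.out : Matrix (Fin n) (Fin n) F) =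
        (ζ • (c.out : Matrix (Fin n) (Fin n) F)) * P} ≤ weightCount (Fintype.card F) n m := by
  classical
  let S := {c : ConjClasses (SpecialLinearGroup (Fin n) F) //
      ∃ P : GL (Fin n) F, (P : Matrix (Fin n) (Fin n) F) * (c.out : Matrix (Fin n) (Fin n) F) =
        (ζ • (c.out : Matrix (Fin n) (Fin n) F)) * P}
  have ho : o ≠ 0 := by
    rintro rfl
    have := hord (Fintype.card F - 1) (FiniteField.pow_card_sub_one_eq_one ζ hζ)
    have := Fintype.one_lt_card (α := F)
    omega
  have hex := fun c : S => exists_divisors (c.1.out : Matrix (Fin n) (Fin n) F)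
    ((Matrix.isUnit_iff_isUnit_det _).2 (by rw [c.1.out.2]; exact isUnit_one))
  choose s hdiv hgood hsum using hex
  have hinv : ∀ c : S, (s c).map (fun x => (x.1.scaleRoots ζ, x.2)) = s c := fun c => by
    obtain ⟨P, hP⟩ := c.2
    exact hasDivisors_unique (GoodDivisors.scale (hgood c) hζ) (hgood c) ((hdiv c).scale hζ)
      ((hdiv c).conj P hP)
  let h : S → Fin n → F[X] := fun c i => contract o (exponentPoly (s c) i)
  have hexp : ∀ c i, expand F o (h c i) = exponentPoly (s c) i := fun c i =>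
    expand_contract_of_scale (GoodDivisors.coeff_zero_exponentPoly (hgood c) i) ho hord
      (exponentPoly_scale (hinv c) i)
  have hdeg : ∀ c i, (exponentPoly (s c) i).natDegree = (h c i).natDegree * o := fun c i => by
    rw [← hexp, natDegree_expand]
  have hmem : ∀ c, h c ∈ tuples F n m := fun c => by
    refine mem_tuples (fun i => ⟨?_, ?_⟩) ?_
    · have := GoodDivisors.monic_exponentPoly (hgood c) i
      rwa [← hexp, monic_expand_iff (Nat.pos_of_ne_zero ho)] at this
    · have := GoodDivisors.coeff_zero_exponentPoly (hgood c) i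
      simpa [h, coeff_contract ho] using this
    · have hw := GoodDivisors.weight_exponentPoly (hgood c) (hsum c)
      simp only [hdeg, ← mul_assoc, ← Finset.sum_mul] at hw
      refine Nat.eq_of_mul_eq_mul_right (Nat.pos_of_ne_zero ho) (hw.trans ?_)
      rw [hom, mul_comm]
  let u : F := (-1) ^ ((o - 1) * m)
  have hdet : ∀ c, tupleDet (h c) = u := fun c => by
    have h1 := (hdiv c).det_eq (hgood c)
    rw [c.1.out.2, ← GoodDivisors.det_exponentPoly (n := n) (hgood c) (hsum c)] at h1
    have h2 : ∀ i : Fin n, polyDet (exponentPoly (s c) i) ^ ((i : ℕ) + 1) =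
        polyDet (h c i) ^ ((i : ℕ) + 1) * (-1) ^ ((o - 1) * (((i : ℕ) + 1) * (h c i).natDegree)) := by
      intro i
      rw [polyDet, polyDet, hdeg, show (exponentPoly (s c) i).coeff 0 = (h c i).coeff 0 by
        simp [h, coeff_contract ho]]
      rw [mul_pow, mul_pow, ← pow_mul, ← pow_mul,
        mul_right_comm ((-1 : F) ^ _) ((h c i).coeff 0 ^ _), ← pow_add]
      congr 2
      obtain ⟨o', rfl⟩ : ∃ o', o = o' + 1 := ⟨o - 1, by omega⟩
      rw [Nat.add_one_sub_one]
      ring
    simp only [tupleDet, h2, Finset.prod_mul_distrib, Finset.prod_pow_eq_pow_sum, ← Finset.mul_sum,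
      (spec_tuples (hmem c)).2] at h1
    calc tupleDet (h c) = tupleDet (h c) * (u * u) := by
          rw [← pow_add, ← two_mul, pow_mul, neg_one_sq, one_pow, mul_one]
      _ = u := by rw [← mul_assoc, tupleDet, ← h1, one_mul]
  haveI : Fintype S := Fintype.ofFinite S
  have hfib : ∀ t ∈ tuples F n m, (Finset.univ.filter fun c : S => h c = t).card ≤
      if tupleDet t = u then leastWeight (Fintype.card F) n t else 0 := fun t ht => by
    rcases Finset.eq_empty_or_nonempty (Finset.univ.filter fun c : S => h c = t) with he | ⟨c₀, hc₀⟩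
    · rw [he]; simp
    rw [Finset.mem_filter] at hc₀
    rw [if_pos (by rw [← hc₀.2, hdet])]
    have hne : ∃ i, (t i).natDegree ≠ 0 := by
      by_contra hall
      push Not at hall
      have := (spec_tuples ht).2
      simp [hall] at this
      omega
    obtain ⟨i, hi, hw⟩ := leastWeight_spec (Fintype.card F) hne
    obtain ⟨x, hx, hxi⟩ : ∃ x ∈ s c₀, x.2 = (i : ℕ) + 1 := by
      by_contra hall
      push Not at hall
      refine hi ?_
      have h0 : exponentPoly (s c₀) i = 1 := by
        rw [exponentPoly, Multiset.filter_eq_nil.2 hall]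
        simp
      have := hdeg c₀ i
      rw [h0, natDegree_one, hc₀.2] at this
      rcases Nat.mul_eq_zero.1 this.symm with h' | h'
      · exact h'
      · exact absurd h' ho
    rw [hw, ← hxi]
    refine le_trans ?_ (card_classes_in_gl_class (hgood c₀) (hdiv c₀) hx)
    rw [← Nat.card_eq_finsetCard]
    refine Nat.card_le_card_of_injective (fun c => ⟨(c : S).1, ?_⟩)
      fun a b hab => Subtype.ext (Subtype.ext (congrArg (fun z => z.1) hab))
    have hc : h c = h c₀ := ((Finset.mem_filter.1 c.2).2).trans hc₀.2.symm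
    have hss : s c = s c₀ :=
      GoodDivisors.eq_of_exponentPoly_eq (hgood c) (hgood c₀)
        (fun y hy => (GoodDivisors.bounds (hgood c.1) (hsum c.1) y hy).2)
        (fun y hy => (GoodDivisors.bounds (hgood c₀) (hsum c₀) y hy).2)
        fun j => by rw [← hexp, ← hexp, hc]
    obtain ⟨P, hP⟩ := isConj_of_divisors (hdiv c) (show HasDivisors _ (s c) by rw [hss]; exact hdiv c₀)
    exact isConj_iff.2 ⟨P, mul_inv_eq_iff_eq_mul.2 (Units.ext hP)⟩
  refine le_trans (Nat.mul_le_mul_left _ ?_) (weighted_tuples_le n m hm u)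
  change Nat.card S ≤ _
  rw [Nat.card_eq_fintype_card, ← Finset.card_univ,
    Finset.card_eq_sum_card_fiberwise (f := h) (t := tuples F n m) fun c _ => hmem c]
  exact Finset.sum_le_sum hfib

/-- The class number bound for `SL`. -/
theorem card_sl_classes_le (hn : 1 ≤ n) :
    (Fintype.card F - 1) * Nat.card (ConjClasses (SpecialLinearGroup (Fin n) F)) ≤
      weightCount (Fintype.card F) n n := by
  have h := card_gl_fixed_le (F := F) (ζ := 1) one_ne_zero (one_mul n).symm hn
    (fun k _ => one_dvd k)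
  refine le_trans (le_of_eq ?_) h
  congr 1
  exact (Nat.card_congr (Equiv.subtypeUnivEquiv fun c => ⟨1, by simp⟩)).symm

theorem weightCount_diag_le {q : ℕ} (hq : 2 ≤ q) {m : ℕ} (hm : 1 ≤ m) :
    2 * weightCount q m m ≤ 5 * ((q - 1) * q ^ (m - 1)) := by
  rcases (show m = 1 ∨ m = 2 ∨ 3 ≤ m by omega) with rfl | rfl | h3
  · rw [weightCount_one_one, pow_zero, mul_one]
    omega
  · simpa using (weightCount_two_two hq).2
  · refine le_trans (Nat.mul_le_mul_left 2 (weightCount_le hq h3)) ?_
    rw [show q ^ (m - 1) = q * q ^ (m - 2) by rw [← pow_succ']; congr 1; omega]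
    have : 6 * q ^ (m - 2) ≤ 3 * (q * q ^ (m - 2)) := by
      rw [← mul_assoc]; exact Nat.mul_le_mul_right _ (by omega)
    calc 2 * ((q - 1) * (q * q ^ (m - 2) + 3 * q ^ (m - 2)))
        = (q - 1) * (2 * (q * q ^ (m - 2)) + 6 * q ^ (m - 2)) := by ring
      _ ≤ (q - 1) * (5 * (q * q ^ (m - 2))) := Nat.mul_le_mul_left _ (by omega)
      _ = _ := by ring

end CfsgLib.SpecGL
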