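import Mathlib

/-!
Classes of a central quotient, counted by orbits of the centre.
-/

set_option autoImplicit false

namespace CfsgLib.CentralClasses

variable {G : Type*} [Group G] [Finite G]

/-- multiplication of classes by central elements -/
@[reducible] noncomputable def centerAction : MulAction (Subgroup.center G) (ConjClasses G) where
  smul z := Quotient.map (fun g => (z : G) * g) fun a b (h : IsConj a b) => by
    obtain ⟨c, hc⟩ := isConj_iff.1 h
    refine isConj_iff.2 ⟨c, ?_⟩
    rw [← hc, ← mul_assoc c, Subgroup.mem_center_iff.1 z.2 c]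
    simp only [mul_assoc]
  one_smul c := by
    induction c using Quotient.inductionOn with
    | _ g => exact congrArg ConjClasses.mk (one_mul g)
  mul_smul z w c := by
    induction c using Quotient.inductionOn with
    | _ g => exact congrArg ConjClasses.mk (mul_assoc (z : G) (w : G) g)

/-- Burnside's count for classes of `G ⧸ Z(G)`. -/
theorem card_quotient_classes_mul [Fintype (Subgroup.center G)] :
    Nat.card (Subgroup.center G) * Nat.card (ConjClasses (G ⧸ Subgroup.center G)) =
      ∑ z : Subgroup.center G,
        Nat.card {c : ConjClasses G // ConjClasses.mk ((z : G) * c.out) = c} := by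
  classical
  letI := centerAction (G := G)
  haveI : Fintype (ConjClasses G) := Fintype.ofFinite _
  haveI : Fintype (Quotient (MulAction.orbitRel (Subgroup.center G) (ConjClasses G))) := Fintype.ofFinite _
  have hB := MulAction.sum_card_fixedBy_eq_card_orbits_mul_card_group (Subgroup.center G) (ConjClasses G)
  have hfix : ∀ z : Subgroup.center G, Fintype.card (MulAction.fixedBy (ConjClasses G) z) =
      Nat.card {c : ConjClasses G // ConjClasses.mk ((z : G) * c.out) = c} := fun z => by
    rw [← Nat.card_eq_fintype_card]
    refine Nat.card_congr (Equiv.subtypeEquivRight fun c => ?_)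
    have hc : z • c = ConjClasses.mk ((z : G) * c.out) := by
      conv_lhs => rw [← c.out_eq]
      rfl
    rw [MulAction.mem_fixedBy, hc]
  rw [Finset.sum_congr rfl fun z _ => hfix z] at hB
  rw [hB, mul_comm, ← Nat.card_eq_fintype_card, ← Nat.card_eq_fintype_card]
  congr 1
  let π : ConjClasses G → ConjClasses (G ⧸ Subgroup.center G) :=
    ConjClasses.map (QuotientGroup.mk' (Subgroup.center G))
  let θ : Quotient (MulAction.orbitRel (Subgroup.center G) (ConjClasses G)) →
      ConjClasses (G ⧸ Subgroup.center G) := Quotient.lift π fun a b hab => by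
    obtain ⟨z, rfl⟩ := hab
    induction b using Quotient.inductionOn with
    | _ g =>
      refine congrArg ConjClasses.mk ?_
      rw [QuotientGroup.mk'_apply, QuotientGroup.mk'_apply, QuotientGroup.mk_mul,
        (QuotientGroup.eq_one_iff (z : G)).2 z.2, one_mul]
  refine (Nat.card_eq_of_bijective θ ⟨?_, ?_⟩).symm
  · intro a b
    induction a using Quotient.inductionOn with
    | _ a =>
    induction b using Quotient.inductionOn with
    | _ b =>
    induction a using Quotient.inductionOn with
    | _ g =>
    induction b using Quotient.inductionOn with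
    | _ g' =>
      intro h
      obtain ⟨c, hc⟩ := isConj_iff.1 (ConjClasses.mk_eq_mk_iff_isConj.1 h)
      obtain ⟨c', rfl⟩ := QuotientGroup.mk'_surjective (Subgroup.center G) c
      rw [← map_inv, ← map_mul, ← map_mul, QuotientGroup.mk'_apply, QuotientGroup.mk'_apply,
        QuotientGroup.eq] at hc
      refine Quotient.sound ⟨(⟨_, hc⟩ : Subgroup.center G)⁻¹, ?_⟩
      refine ConjClasses.mk_eq_mk_iff_isConj.2 (IsConj.symm (isConj_iff.2 ⟨c', ?_⟩))
      dsimp only
      rw [show ((⟨_, hc⟩ : Subgroup.center G)⁻¹ : Subgroup.center G).val * g' =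
        g' * ((c' * g * c'⁻¹)⁻¹ * g')⁻¹ from (Subgroup.mem_center_iff.1
          ((⟨_, hc⟩ : Subgroup.center G)⁻¹).2 g').symm]
      group
  · intro C
    induction C using Quotient.inductionOn with
    | _ x =>
      obtain ⟨g, rfl⟩ := QuotientGroup.mk'_surjective (Subgroup.center G) x
      exact ⟨Quotient.mk'' (ConjClasses.mk g), rfl⟩

theorem card_classes_le_mul [Fintype (Subgroup.center G)] :
    Nat.card (ConjClasses G) ≤
      Nat.card (Subgroup.center G) * Nat.card (ConjClasses (G ⧸ Subgroup.center G)) := by
  rw [card_quotient_classes_mul]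
  refine le_trans (le_of_eq ?_) (Finset.single_le_sum (fun _ _ => Nat.zero_le _)
    (Finset.mem_univ (1 : Subgroup.center G)))
  refine (Nat.card_congr (Equiv.subtypeUnivEquiv fun c => ?_)).symm
  rw [OneMemClass.coe_one, one_mul]
  exact c.out_eq

end CfsgLib.CentralClasses
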