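import Mathlib
import Cfsg.Agent.Lib.SpecGL.TupleWeight

/-!
`SL_n(q)` has more than `q^(n-1)` classes.
-/

set_option autoImplicit false

namespace CfsgLib.SpecGL

open Polynomial Matrix

variable {F : Type*} [Field F] [Fintype F]

theorem pow_lt_card_sl_classes {n : ℕ} (hn : 2 ≤ n) :
    Fintype.card F ^ (n - 1) < Nat.card (ConjClasses (SpecialLinearGroup (Fin n) F)) := by
  classical
  obtain ⟨e, rfl⟩ : ∃ e, n = e + 1 := ⟨n - 1, by omega⟩
  rw [Nat.add_one_sub_one]
  let T := {f : F[X] // f.Monic ∧ f.natDegree = e + 1 ∧ f.coeff 0 = (-1) ^ (e + 1)}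
  let Φ : ConjClasses (SpecialLinearGroup (Fin (e + 1)) F) → T := fun c =>
    ⟨(c.out : Matrix (Fin (e + 1)) (Fin (e + 1)) F).charpoly, Matrix.charpoly_monic _,
      by rw [Matrix.charpoly_natDegree_eq_dim, Fintype.card_fin], by
      have h := Matrix.det_eq_sign_charpoly_coeff (c.out : Matrix (Fin (e + 1)) (Fin (e + 1)) F)
      rw [c.out.2, Fintype.card_fin] at h
      calc (c.out : Matrix (Fin (e + 1)) (Fin (e + 1)) F).charpoly.coeff 0
          = ((-1) ^ (e + 1) * (-1) ^ (e + 1)) *
              (c.out : Matrix (Fin (e + 1)) (Fin (e + 1)) F).charpoly.coeff 0 := by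
            rw [← pow_add, ← two_mul, pow_mul, neg_one_sq, one_pow, one_mul]
        _ = _ := by rw [mul_assoc, ← h, mul_one]⟩
  have hΦ : ∀ A : SpecialLinearGroup (Fin (e + 1)) F,
      (Φ (ConjClasses.mk A)).1 = (A : Matrix (Fin (e + 1)) (Fin (e + 1)) F).charpoly := by
    intro A
    obtain ⟨P, hP⟩ := isConj_iff.1 (ConjClasses.mk_eq_mk_iff_isConj.1
      ((ConjClasses.mk A).out_eq : ConjClasses.mk (ConjClasses.mk A).out = ConjClasses.mk A))
    change ((ConjClasses.mk A).out : Matrix (Fin (e + 1)) (Fin (e + 1)) F).charpoly = _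
    have h := Matrix.charpoly_units_conj (SpecialLinearGroup.toGL P)
      ((ConjClasses.mk A).out : Matrix (Fin (e + 1)) (Fin (e + 1)) F)
    have h2 := congrArg (fun M => ((SpecialLinearGroup.toGL M : GL (Fin (e + 1)) F) :
      Matrix (Fin (e + 1)) (Fin (e + 1)) F)) hP
    simp only [map_mul, map_inv, Units.val_mul, Matrix.coe_units_inv] at h2 h
    exact h.symm.trans (congrArg Matrix.charpoly h2)
  have hsurj : Function.Surjective Φ := by
    rintro ⟨f, hm, hd, h0⟩
    let pb := AdjoinRoot.powerBasis hm.ne_zero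
    have hdim : pb.dim = e + 1 := hd
    let M := Matrix.reindex (finCongr hdim) (finCongr hdim) (Algebra.leftMulMatrix pb.basis pb.gen)
    have hM : M.charpoly = f := by
      rw [Matrix.charpoly_reindex, charpoly_leftMulMatrix, AdjoinRoot.powerBasis_gen,
        AdjoinRoot.minpoly_root hm.ne_zero, hm.leadingCoeff, inv_one, map_one, mul_one]
    have hdet : M.det = 1 := by
      rw [Matrix.det_eq_sign_charpoly_coeff, hM, h0, Fintype.card_fin, ← pow_add, ← two_mul, pow_mul,
        neg_one_sq, one_pow]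
    exact ⟨ConjClasses.mk ⟨M, hdet⟩, Subtype.ext ((hΦ _).trans hM)⟩
  have hninj : ¬ Function.Injective Φ := by
    intro hinj
    let i₀ : Fin (e + 1) := 0
    let i₁ : Fin (e + 1) := ⟨1, by omega⟩
    have hne : i₀ ≠ i₁ := fun h => by simpa [i₀, i₁] using congrArg Fin.val h
    let U : SpecialLinearGroup (Fin (e + 1)) F :=
      ⟨Matrix.transvection i₀ i₁ 1, Matrix.det_transvection_of_ne i₀ i₁ hne 1⟩
    have hU : U ≠ 1 := fun h => by
      have := congrFun (congrFun (congrArg Subtype.val h) i₀) i₁
      simp [U, Matrix.transvection, hne] at this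
    have hchar : (U : Matrix (Fin (e + 1)) (Fin (e + 1)) F).charpoly =
        (1 : Matrix (Fin (e + 1)) (Fin (e + 1)) F).charpoly := by
      rw [Matrix.charpoly_of_isUpperTriangular _ ?_, Matrix.charpoly_one, Fintype.card_fin]
      · have hd : ∀ i, (U : Matrix (Fin (e + 1)) (Fin (e + 1)) F) i i = 1 := fun i => by
          change Matrix.transvection i₀ i₁ (1 : F) i i = 1
          simp only [Matrix.transvection, Matrix.add_apply, Matrix.one_apply_eq]
          rw [Matrix.single_apply_of_ne]
          · simp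
          · rintro ⟨h1, h2⟩
            exact hne (h1.trans h2.symm)
        simp [hd]
      · intro i j hij
        change j < i at hij
        change Matrix.transvection i₀ i₁ (1 : F) i j = 0
        simp only [Matrix.transvection, Matrix.add_apply, Matrix.one_apply_ne hij.ne']
        rw [Matrix.single_apply_of_ne]
        · simp
        · rintro ⟨rfl, rfl⟩
          exact absurd hij (by simp [i₀, i₁])
    have := hinj (a₁ := ConjClasses.mk U) (a₂ := ConjClasses.mk 1) (Subtype.ext (by
      rw [hΦ, hΦ, hchar]; rfl))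
    rw [ConjClasses.mk_eq_mk_iff_isConj, isConj_comm, isConj_one_right] at this
    exact hU this
  haveI : Finite T := Finite.of_surjective Φ hsurj
  have hlt : Nat.card T < Nat.card (ConjClasses (SpecialLinearGroup (Fin (e + 1)) F)) :=
    lt_of_le_of_ne (Nat.card_le_card_of_surjective Φ hsurj) fun heq =>
      hninj ((Nat.bijective_iff_surjective_and_card Φ).2 ⟨hsurj, heq.symm⟩).1
  refine lt_of_le_of_lt ?_ hlt
  have hbound : Fintype.card F ^ e = Nat.card (Fin e → F) := by simp
  rw [hbound]
  have hmem : ∀ v : Fin e → F,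
      (X ^ (e + 1) + C ((-1 : F) ^ (e + 1)) + X * ∑ j : Fin e, C (v j) * X ^ (j : ℕ)) ∈ polys F (e + 1) := by
    intro v
    rw [polys]
    exact Finset.mem_image.2 ⟨(⟨(-1) ^ (e + 1), pow_ne_zero _ (neg_ne_zero.2 one_ne_zero)⟩, v),
      Finset.mem_univ _, rfl⟩
  refine Nat.card_le_card_of_injective (fun v : Fin e → F => (⟨_, (spec_polys (hmem v)).1,
    (spec_polys (hmem v)).2.1, by rw [coeff_shape, if_pos rfl]⟩ : T)) fun v w hvw => funext fun j => ?_
  have := congrArg (fun P : T => P.1.coeff ((j : ℕ) + 1)) hvw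
  simp only [coeff_shape, Nat.succ_ne_zero, if_false, Nat.add_right_cancel_iff,
    Nat.add_one_sub_one, dif_pos j.2] at this
  rwa [if_neg (by omega), if_neg (by omega)] at this

end CfsgLib.SpecGL
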